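import Groth.Agent.EtClImm.Mod
import Groth.Agent.QCart.EtBasis

/-!
# Modules annihilated by the ideal of a closed subspace are direct images
-/

set_option autoImplicit false
set_option linter.style.haveILetI false
set_option backward.isDefEq.respectTransparency false
set_option backward.isDefEq.respectTransparency.types false

universe u

open CategoryTheory CategoryTheory.Limits AlgebraicGeometry Opposite AlgSp

namespace Groth.Agent.EtClImm

variable {S : Scheme.{u}} {Z X : Sp S} {f : Z ⟶ X} (hf : Representable f) (F : ModEt X)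

/-- The kernels of pullback of functions on affine objects kill the sections. -/
def KilledBy : Prop :=
  ∀ (E : EtOver X), IsAffine E.obj.left.left → ∀ (a : (OEtRing X).obj.obj (op E)),
    ((bcRingHom hf).hom.app (op E)).hom a = 0 → ∀ x : F.val.obj (op E), a • x = 0

variable {hf F}

theorem KilledBy.subsingleton_of_affine (hK : KilledBy hf F) {E : EtOver X} (hE : IsAffine E.obj.left.left)
    (hm : Misses f E) : Subsingleton (F.val.obj (op E)) := by
  have := isEmpty_bcObj hf hm
  have : Subsingleton ((OEtRing Z).obj.obj (op (EtOver.bcObj hf E))) := by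
    have : Subsingleton Γ((EtOver.bcObj hf E).obj.left.left, ⊤) :=
      CommRingCat.subsingleton_of_isTerminal ((EtOver.bcObj hf E).obj.left.left.sheaf.isTerminalOfEqEmpty
        (by ext x; exact isEmptyElim x))
    exact ⟨fun a b => ULift.ext _ _ (@Subsingleton.elim _ this _ _)⟩
  exact ⟨fun x y => by rw [← one_smul ((OEtRing X).obj.obj (op E)) x, ← one_smul ((OEtRing X).obj.obj (op E)) y,
    hK E hE 1 (@Subsingleton.elim _ this _ _) x, hK E hE 1 (@Subsingleton.elim _ this _ _) y]⟩

/-- Abelian sheaves are separated for jointly surjective families. -/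
theorem ab_ext {W : Sp S} (A : AbEt W) (T : EtOver W) (x y : A.obj.obj (op T))
    (h : ∀ w : T.obj.left.left, ∃ (V : EtOver W) (g : V ⟶ T), w ∈ Set.range g.hom.left.left.base ∧
      A.obj.map g.op x = A.obj.map g.op y) : x = y := by
  choose V g hg he using h
  have hsep : Presieve.IsSeparated (etTop W) (A.obj ⋙ CategoryTheory.forget AddCommGrpCat.{u + 1}) :=
    ((isSheaf_iff_isSheaf_of_type _ _).1
      ((Presheaf.isSheaf_iff_isSheaf_forget _ _ (CategoryTheory.forget AddCommGrpCat.{u + 1})).1 A.property)).isSeparated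
  refine (hsep _ (ofArrows_mem_etTop V g fun w => ⟨w, hg w⟩)).ext fun W' k hk => ?_
  obtain ⟨_, a, _, ⟨w⟩, rfl⟩ := hk
  show A.obj.map (a ≫ g w).op x = A.obj.map (a ≫ g w).op y
  rw [op_comp, Functor.map_comp]
  exact congrArg (fun q => A.obj.map a.op q) (he w)

theorem KilledBy.subsingleton (hK : KilledBy hf F) {E : EtOver X} (hm : Misses f E) :
    Subsingleton (F.val.obj (op E)) := by
  refine ⟨fun x y => ab_ext ((SheafOfModules.toSheaf _).obj F) E x y fun w => ?_⟩
  obtain ⟨O, hO, hwO, -⟩ := exists_isAffineOpen_mem_and_subset (U := (⊤ : E.obj.left.left.Opens)) (x := w) trivial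
  have := hK.subsingleton_of_affine (E := etOf E O.ι) hO ((missSieve f E).downward_closed (f := 𝟙 E) hm (etTo E O.ι))
  exact ⟨_, etTo E O.ι, ⟨⟨w, hwO⟩, rfl⟩,
    (this.elim _ _ : (F.val.presheaf.map (etTo E O.ι).op x : F.val.obj _) = F.val.presheaf.map (etTo E O.ι).op y)⟩

section Construction

variable {A : AbEt Z} (e : (pushEt hf AddCommGrpCat.{u + 1}).obj A ≅ (SheafOfModules.toSheaf _).obj F)

/-- The comparison of sections. -/
noncomputable def sec (E : EtOver X) : A.obj.obj (op (EtOver.bcObj hf E)) ≃+ F.val.obj (op E) :=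
  (((sheafToPresheaf _ _).mapIso e).app (op E)).addCommGroupIsoToAddEquiv

theorem sec_map {E E' : EtOver X} (l : E' ⟶ E) (m : A.obj.obj (op (EtOver.bcObj hf E))) :
    sec e E' (A.obj.map ((EtOver.bc hf).map l).op m) = F.val.map l.op (sec e E m) :=
  ConcreteCategory.congr_hom (e.hom.hom.naturality l.op) m

/-- Transported multiplication. -/
noncomputable def act (E : EtOver X) (a : (OEtRing X).obj.obj (op E))
    (m : A.obj.obj (op (EtOver.bcObj hf E))) : A.obj.obj (op (EtOver.bcObj hf E)) :=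
  (sec e E).symm (a • sec e E m)

theorem act_map {E E' : EtOver X} (l : E' ⟶ E) (a : (OEtRing X).obj.obj (op E))
    (m : A.obj.obj (op (EtOver.bcObj hf E))) :
    A.obj.map ((EtOver.bc hf).map l).op (act e E a m) =
      act e E' ((OEtRing X).obj.map l.op a) (A.obj.map ((EtOver.bc hf).map l).op m) := by
  apply (sec e E').injective
  rw [sec_map, act, act, AddEquiv.apply_symm_apply, AddEquiv.apply_symm_apply, sec_map]
  exact F.val.map_smul l.op a _

theorem act_congr (hK : KilledBy hf F) {E : EtOver X} (hE : IsAffine E.obj.left.left)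
    {a a' : (OEtRing X).obj.obj (op E)}
    (h : ((bcRingHom hf).hom.app (op E)).hom a = ((bcRingHom hf).hom.app (op E)).hom a')
    (m : A.obj.obj (op (EtOver.bcObj hf E))) : act e E a m = act e E a' m := by
  refine congrArg (sec e E).symm (sub_eq_zero.1 ?_)
  rw [← sub_smul]
  exact hK E hE _ (by rw [map_sub, sub_eq_zero]; exact h) _

theorem bcRingHom_map {E E' : EtOver X} (l : E' ⟶ E) (a : (OEtRing X).obj.obj (op E)) :
    ((bcRingHom hf).hom.app (op E')).hom ((OEtRing X).obj.map l.op a) =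
      (OEtRing Z).obj.map ((EtOver.bc hf).map l).op (((bcRingHom hf).hom.app (op E)).hom a) :=
  RingHom.congr_fun (congrArg RingCat.Hom.hom ((bcRingHom hf).hom.naturality l.op)) a

theorem ring_map_map {V W T : EtOver Z} (g : V ⟶ W) (k : W ⟶ T) (r : (OEtRing Z).obj.obj (op T)) :
    (OEtRing Z).obj.map g.op ((OEtRing Z).obj.map k.op r) = (OEtRing Z).obj.map (g ≫ k).op r := by
  rw [op_comp, Functor.map_comp]
  rfl

theorem ab_map_map {V W T : EtOver Z} (g : V ⟶ W) (k : W ⟶ T) (m : A.obj.obj (op T)) :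
    A.obj.map g.op (A.obj.map k.op m) = A.obj.map (g ≫ k).op m := by
  rw [op_comp, Functor.map_comp]
  rfl

theorem act_hom (H : Hyp f) (hi : RepWith @IsClosedImmersion f) (hK : KilledBy hf F) {E₁ E₂ : EtOver X}
    (hE₂ : IsAffine E₂.obj.left.left)
    (h : EtOver.bcObj hf E₂ ⟶ EtOver.bcObj hf E₁) (a₁ : (OEtRing X).obj.obj (op E₁))
    (a₂ : (OEtRing X).obj.obj (op E₂))
    (ha : ((bcRingHom hf).hom.app (op E₂)).hom a₂ =
      (OEtRing Z).obj.map h.op (((bcRingHom hf).hom.app (op E₁)).hom a₁))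
    (m : A.obj.obj (op (EtOver.bcObj hf E₁))) :
    A.obj.map h.op (act e E₁ a₁ m) = act e E₂ a₂ (A.obj.map h.op m) := by
  have := H.isLocallyFull (hf := hf)
  refine ab_ext A _ _ _ fun w => ?_
  obtain ⟨W, _, ⟨E₄', j', d, ⟨l', hl'⟩, rfl⟩, v, hv⟩ := exists_of_mem_etTop
    ((EtOver.bc hf).functorPushforward_imageSieve_mem (etTop Z) (U := E₂) (V := E₁) h) w
  obtain ⟨O, hO, hvO, -⟩ := exists_isAffineOpen_mem_and_subset (U := (⊤ : E₄'.obj.left.left.Opens))
    (x := (EtOver.bcπ hf E₄').left.base (d.hom.left.left.base v)) trivial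
  obtain ⟨v', hv'⟩ := exists_point_bc_etTo hf E₄' O.ι (d.hom.left.left.base v) ⟨_, hvO⟩ rfl
  let j := etTo E₄' O.ι ≫ j'
  let l := etTo E₄' O.ι ≫ l'
  have hl : (EtOver.bc hf).map j ≫ h = (EtOver.bc hf).map l := by
    rw [Functor.map_comp, Functor.map_comp, Category.assoc, hl']
  refine ⟨_, (EtOver.bc hf).map j, ⟨v', ?_⟩, ?_⟩
  · rw [Functor.map_comp, ← hv]
    show ((EtOver.bc hf).map j').hom.left.left.base
      ((EtOver.bcMap hf (etTo E₄' O.ι)).hom.left.left.base v') = _
    rw [hv']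
    rfl
  · rw [ab_map_map, hl]
    refine (act_map e l a₁ m).trans (Eq.trans ?_ (act_map e j a₂ _).symm)
    refine Eq.trans ?_ (congrArg (act e _ _)
      ((ab_map_map _ h m).trans (congrArg (fun k => A.obj.map k.op m) hl))).symm
    refine act_congr e hK (E := etOf E₄' O.ι) hO ?_ _
    rw [bcRingHom_map, bcRingHom_map, ha]
    generalize ((bcRingHom hf).hom.app (op E₁)).hom a₁ = r
    have key := ring_map_map ((EtOver.bc hf).map j) h r
    have key' : ((OEtRing Z).obj.map ((EtOver.bc hf).map j ≫ h).op) r =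
        ((OEtRing Z).obj.map ((EtOver.bc hf).map l).op) r :=
      congrArg (fun k : EtOver.bcObj hf (etOf E₄' O.ι) ⟶ EtOver.bcObj hf E₁ => (OEtRing Z).obj.map k.op r) hl
    exact (key.trans key').symm

theorem act_agree (H : Hyp f) (hi : RepWith @IsClosedImmersion f) (hK : KilledBy hf F) {W : EtOver Z}
    {E₁ E₂ : EtOver X} (g₁ : W ⟶ EtOver.bcObj hf E₁) (g₂ : W ⟶ EtOver.bcObj hf E₂)
    (a₁ : (OEtRing X).obj.obj (op E₁)) (a₂ : (OEtRing X).obj.obj (op E₂))
    (m₁ : A.obj.obj (op (EtOver.bcObj hf E₁))) (m₂ : A.obj.obj (op (EtOver.bcObj hf E₂)))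
    (ha : (OEtRing Z).obj.map g₁.op (((bcRingHom hf).hom.app (op E₁)).hom a₁) =
      (OEtRing Z).obj.map g₂.op (((bcRingHom hf).hom.app (op E₂)).hom a₂))
    (hm : A.obj.map g₁.op m₁ = A.obj.map g₂.op m₂) :
    A.obj.map g₁.op (act e E₁ a₁ m₁) = A.obj.map g₂.op (act e E₂ a₂ m₂) := by
  refine ab_ext A _ _ _ fun w => ?_
  obtain ⟨E₃, hE₃, θ, hw⟩ := exists_bc_hom_affine hf H W w
  obtain ⟨a₃, ha₃⟩ := surjective_bcRingHom hf hi E₃ hE₃
    ((OEtRing Z).obj.map (θ ≫ g₁).op (((bcRingHom hf).hom.app (op E₁)).hom a₁))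
  refine ⟨_, θ, hw, ?_⟩
  rw [ab_map_map, ab_map_map, act_hom e H hi hK hE₃ (θ ≫ g₁) a₁ a₃ ha₃,
    act_hom e H hi hK hE₃ (θ ≫ g₂) a₂ a₃ (by rw [ha₃, ← ring_map_map θ g₁, ← ring_map_map θ g₂, ha]),
    ← ab_map_map θ g₁, ← ab_map_map θ g₂, hm]

/-- The characterisation of the transported scalar multiplication. -/
def IsSMul (T : EtOver Z) (r : (OEtRing Z).obj.obj (op T)) (m x : A.obj.obj (op T)) : Prop :=
  ∀ (E : EtOver X) (_ : IsAffine E.obj.left.left) (ψ : EtOver.bcObj hf E ⟶ T) (a : (OEtRing X).obj.obj (op E)),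
    ((bcRingHom hf).hom.app (op E)).hom a = (OEtRing Z).obj.map ψ.op r →
      A.obj.map ψ.op x = act e E a (A.obj.map ψ.op m)

theorem isSMul_unique (H : Hyp f) (hi : RepWith @IsClosedImmersion f) {T : EtOver Z}
    {r : (OEtRing Z).obj.obj (op T)} {m x y : A.obj.obj (op T)} (hx : IsSMul e T r m x)
    (hy : IsSMul e T r m y) : x = y := by
  refine ab_ext A _ _ _ fun w => ?_
  obtain ⟨E, hE, ψ, hw⟩ := exists_bc_hom_affine hf H T w
  obtain ⟨a, ha⟩ := surjective_bcRingHom hf hi E hE ((OEtRing Z).obj.map ψ.op r)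
  exact ⟨_, ψ, hw, (hx E hE ψ a ha).trans (hy E hE ψ a ha).symm⟩

theorem exists_isSMul (H : Hyp f) (hi : RepWith @IsClosedImmersion f) (hK : KilledBy hf F) (T : EtOver Z)
    (r : (OEtRing Z).obj.obj (op T)) (m : A.obj.obj (op T)) : ∃ x, IsSMul e T r m x := by
  choose E hE ψ hψ using exists_bc_hom_affine hf H T
  choose a ha using fun w => surjective_bcRingHom hf hi (E w) (hE w) ((OEtRing Z).obj.map (ψ w).op r)
  have hcov := ofArrows_mem_etTop (fun w => EtOver.bcObj hf (E w)) ψ fun w => ⟨w, hψ w⟩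
  have hsh := (isSheaf_iff_isSheaf_of_type _ _).1
    ((Presheaf.isSheaf_iff_isSheaf_forget _ _ (CategoryTheory.forget AddCommGrpCat.{u + 1})).1 A.property) _ hcov
  rw [show Sieve.ofArrows (fun w => EtOver.bcObj hf (E w)) ψ =
      Sieve.generate (Presieve.ofArrows (fun w => EtOver.bcObj hf (E w)) ψ) from rfl,
    ← Presieve.isSheafFor_iff_generate, Presieve.isSheafFor_arrows_iff] at hsh
  obtain ⟨x, hx, -⟩ := hsh (fun w => act e (E w) (a w) (A.obj.map (ψ w).op m)) fun i j W g g' hgg => by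
    refine act_agree e H hi hK g g' _ _ _ _ ?_ ?_
    · rw [ha, ha, ring_map_map, ring_map_map, hgg]
    · rw [ab_map_map, ab_map_map, hgg]
  refine ⟨x, fun E' hE' θ a' ha' => ab_ext A _ _ _ fun v => ?_⟩
  obtain ⟨W, g, hg, hv⟩ := exists_of_mem_etTop ((etTop Z).pullback_stable θ hcov) v
  obtain ⟨w, c, hc⟩ := (Sieve.mem_ofArrows_iff _ _ _).1 hg
  refine ⟨W, g, hv, ?_⟩
  rw [ab_map_map, hc, ← ab_map_map, show A.obj.map (ψ w).op x = _ from hx w]
  refine act_agree e H hi hK c g _ _ _ _ ?_ ?_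
  · rw [ha, ha', ring_map_map, ring_map_map, hc]
  · rw [ab_map_map, ab_map_map, hc]

variable (H : Hyp f) (hi : RepWith @IsClosedImmersion f) (hK : KilledBy hf F)

/-- The transported scalar multiplication. -/
noncomputable def tsmul (T : EtOver Z) (r : (OEtRing Z).obj.obj (op T)) (m : A.obj.obj (op T)) : A.obj.obj (op T) :=
  (exists_isSMul e H hi hK T r m).choose

theorem tsmul_spec (T : EtOver Z) (r : (OEtRing Z).obj.obj (op T)) (m : A.obj.obj (op T)) :
    IsSMul e T r m (tsmul e H hi hK T r m) :=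
  (exists_isSMul e H hi hK T r m).choose_spec

theorem tsmul_eq {T : EtOver Z} {r : (OEtRing Z).obj.obj (op T)} {m x : A.obj.obj (op T)}
    (hx : IsSMul e T r m x) : tsmul e H hi hK T r m = x :=
  isSMul_unique e H hi (tsmul_spec e H hi hK T r m) hx

/-- The transported module structure. -/
noncomputable abbrev moduleAt (T : EtOver Z) : Module ((OEtRing Z).obj.obj (op T)) (A.obj.obj (op T)) where
  smul := tsmul e H hi hK T
  one_smul m := tsmul_eq e H hi hK fun E hE ψ a ha => by
    rw [act_congr e hK hE (a := a) (a' := 1) (ha.trans ((map_one _).trans (map_one _).symm)), act, one_smul,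
      AddEquiv.symm_apply_apply]
  mul_smul r r' m := tsmul_eq e H hi hK fun E hE ψ a ha => by
    obtain ⟨b, hb⟩ := surjective_bcRingHom hf hi E hE ((OEtRing Z).obj.map ψ.op r)
    obtain ⟨b', hb'⟩ := surjective_bcRingHom hf hi E hE ((OEtRing Z).obj.map ψ.op r')
    refine Eq.trans (tsmul_spec e H hi hK T r _ E hE ψ b hb) ?_
    show act e E b (A.obj.map ψ.op (tsmul e H hi hK T r' m)) = _
    rw [tsmul_spec e H hi hK T r' m E hE ψ b' hb',
      act_congr e hK hE (a := a) (a' := b * b') (by rw [ha, map_mul, map_mul, hb, hb']), act, act, act,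
      AddEquiv.apply_symm_apply, mul_smul]
  smul_zero r := tsmul_eq e H hi hK fun E hE ψ a ha => by
    simp [act, map_zero]
  smul_add r m m' := tsmul_eq e H hi hK fun E hE ψ a ha => by
    refine ((A.obj.map ψ.op).hom.map_add _ _).trans ((congrArg₂ (· + ·)
      (tsmul_spec e H hi hK T r m E hE ψ a ha) (tsmul_spec e H hi hK T r m' E hE ψ a ha)).trans ?_)
    rw [map_add, act, act, act, map_add, smul_add, map_add]
  add_smul r r' m := tsmul_eq e H hi hK fun E hE ψ a ha => by
    obtain ⟨b, hb⟩ := surjective_bcRingHom hf hi E hE ((OEtRing Z).obj.map ψ.op r)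
    obtain ⟨b', hb'⟩ := surjective_bcRingHom hf hi E hE ((OEtRing Z).obj.map ψ.op r')
    refine ((A.obj.map ψ.op).hom.map_add _ _).trans ((congrArg₂ (· + ·)
      (tsmul_spec e H hi hK T r m E hE ψ b hb) (tsmul_spec e H hi hK T r' m E hE ψ b' hb')).trans ?_)
    rw [act_congr e hK hE (a := a) (a' := b + b') (by rw [ha, map_add, map_add, hb, hb']), act, act, act, add_smul, map_add]
  zero_smul m := tsmul_eq e H hi hK fun E hE ψ a ha => by
    rw [act_congr e hK hE (a := a) (a' := 0) (ha.trans ((map_zero _).trans (map_zero _).symm)), act, zero_smul,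
      map_zero, map_zero]

/-- The module on the closed subspace. -/
noncomputable def descended : ModEt Z :=
  letI : ∀ T : (EtOver Z)ᵒᵖ, Module ((OEtRing Z).obj.obj T) (A.obj.obj T) := fun T => moduleAt e H hi hK T.unop
  { val := PresheafOfModules.ofPresheaf A.obj fun {T T'} g r m => by
      refine (isSMul_unique e H hi ?_ (tsmul_spec e H hi hK T'.unop _ _))
      intro E hE ψ a ha
      show A.obj.map ψ.op (A.obj.map g.unop.op (tsmul e H hi hK T.unop r m)) =
        act e E a (A.obj.map ψ.op (A.obj.map g.unop.op m))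
      rw [ab_map_map, ab_map_map]
      refine tsmul_spec e H hi hK T.unop r m E hE (ψ ≫ g.unop) a ?_
      rw [ha, ← ring_map_map]
      rfl
    isSheaf := A.property }

theorem sec_smul (E : EtOver X) (a : (OEtRing X).obj.obj (op E))
    (m : A.obj.obj (op (EtOver.bcObj hf E))) :
    sec e E (tsmul e H hi hK (EtOver.bcObj hf E) (((bcRingHom hf).hom.app (op E)).hom a) m) = a • sec e E m := by
  refine ab_ext ((SheafOfModules.toSheaf _).obj F) E _ _ fun w => ?_
  obtain ⟨O, hO, hwO, -⟩ := exists_isAffineOpen_mem_and_subset (U := (⊤ : E.obj.left.left.Opens)) (x := w) trivial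
  refine ⟨_, etTo E O.ι, ⟨⟨w, hwO⟩, rfl⟩, ?_⟩
  show F.val.map (etTo E O.ι).op (sec e E _) = F.val.map (etTo E O.ι).op (a • sec e E m)
  refine (sec_map e (etTo E O.ι) _).symm.trans ((congrArg (sec e _) (tsmul_spec e H hi hK
    (EtOver.bcObj hf E) _ m (etOf E O.ι) hO ((EtOver.bc hf).map (etTo E O.ι))
    ((OEtRing X).obj.map (etTo E O.ι).op a) (bcRingHom_map _ a))).trans ?_)
  rw [act, AddEquiv.apply_symm_apply]
  refine (congrArg _ (sec_map e (etTo E O.ι) m)).trans ?_
  exact (F.val.map_smul (etTo E O.ι).op a (sec e E m)).symm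

end Construction

theorem exists_push_iso (H : Hyp f) (hi : RepWith @IsClosedImmersion f) (hK : KilledBy hf F) :
    ∃ G : ModEt Z, Nonempty ((pushModEt hf).obj G ≅ F) := by
  obtain ⟨A, ⟨e⟩⟩ := (essImage_pushEt_ab (hf := hf) H ((SheafOfModules.toSheaf _).obj F)).2
    fun E hE => hK.subsingleton hE
  refine ⟨descended e H hi hK, ⟨(SheafOfModules.fullyFaithfulForget _).preimageIso
    (PresheafOfModules.isoMk (fun E => LinearEquiv.toModuleIso
      (X₁ := (((pushModEt hf).obj (descended e H hi hK)).val.obj E : ModuleCat _))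
      (X₂ := (F.val.obj E : ModuleCat _))
      ({ (sec e E.unop) with map_smul' := fun a m => sec_smul e H hi hK E.unop a m } :
        ((pushModEt hf).obj (descended e H hi hK)).val.obj E ≃ₗ[(OEtRing X).obj.obj E] F.val.obj E))
      fun T T' g => ?_)⟩⟩
  exact ModuleCat.hom_ext (LinearMap.ext fun m => sec_map e g.unop m)

end Groth.Agent.EtClImm
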