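import Groth.Agent.QCart.Local

/-!
# Cartesianness from cartesianness on a class of covering morphisms
-/

universe w v₁ u₁

set_option autoImplicit false
set_option linter.style.haveILetI false
set_option backward.isDefEq.respectTransparency false
set_option backward.isDefEq.respectTransparency.types false

open CategoryTheory Opposite TensorProduct Groth.Agent.QCart

namespace Groth.Agent.EtClImm

variable {C : Type u₁} [Category.{v₁} C] {O : Cᵒᵖ ⥤ CommRingCat.{w}}
  {E Z W : C} (g : Z ⟶ E) (k : W ⟶ Z) (M : PresheafOfModules.{w} (RR O))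

/-- `Rg O g` is the ring of sections over its source. -/
noncomputable abbrev idAlg : Algebra (O.obj (op Z)) (Rg O g) :=
  RingHom.toAlgebra (S := Rg O g) (RingHom.id (O.obj (op Z)))

attribute [local instance] idAlg

instance smulCommClass_rg : SMulCommClass (O.obj (op E)) (O.obj (op Z)) (Rg O g) := ⟨fun a b x => by
  simp only [Algebra.smul_def]
  exact mul_left_comm _ _ _⟩

/-- Base change, linear over the sections over the source. -/
noncomputable def bcLin : Rg O g ⊗[O.obj (op E)] M.obj (op E) →ₗ[O.obj (op Z)] M.obj (op Z) where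
  toFun z := bcMap g M z
  map_add' := map_add (bcMap g M)
  map_smul' a z := (bcMap g M).map_smul (show Rg O g from a) z

/-- The linear comparison of iterated base changes. -/
theorem exists_cancel : ∃ e : Rg O k ⊗[O.obj (op Z)] (Rg O g ⊗[O.obj (op E)] M.obj (op E)) ≃+
      Rg O (k ≫ g) ⊗[O.obj (op E)] M.obj (op E),
    ∀ z, (show M.obj (op W) from bcMap (k ≫ g) M (e z)) =
      (show M.obj (op W) from bcMap k M ((bcLin g M).lTensor (Rg O k) z)) := by
  letI : Algebra (O.obj (op E)) (O.obj (op Z)) := (O.map g.op).hom.toAlgebra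
  letI : Algebra (O.obj (op E)) (Rg O k) := RingHom.toAlgebra (S := Rg O k) (O.map (k ≫ g).op).hom
  haveI : IsScalarTower (O.obj (op E)) (O.obj (op Z)) (Rg O k) := IsScalarTower.of_algebraMap_eq fun a => by
    show (O.map (k ≫ g).op).hom a = (O.map k.op).hom ((O.map g.op).hom a)
    rw [op_comp, Functor.map_comp, CommRingCat.comp_apply]
  refine ⟨(TensorProduct.AlgebraTensorModule.cancelBaseChange (O.obj (op E)) (O.obj (op Z)) (Rg O k) (Rg O k)
    (M.obj (op E))).toAddEquiv, fun z => ?_⟩
  induction z using TensorProduct.induction_on with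
  | zero => rfl
  | add z z' hz hz' =>
    simp only [map_add]
    exact congrArg₂ (fun a b : M.obj (op W) => a + b) hz hz'
  | tmul b v =>
    induction v using TensorProduct.induction_on with
    | zero => rw [TensorProduct.tmul_zero]; rfl
    | add v v' hv hv' =>
      rw [TensorProduct.tmul_add]
      simp only [map_add]
      exact congrArg₂ (fun a b : M.obj (op W) => a + b) hv hv'
    | tmul a x =>
      rw [LinearMap.lTensor_tmul, bcMap_tmul]
      show bcMap (k ≫ g) M (TensorProduct.AlgebraTensorModule.cancelBaseChange (O.obj (op E)) (O.obj (op Z)) (Rg O k)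
        (Rg O k) (M.obj (op E)) (b ⊗ₜ (a ⊗ₜ x))) = _
      rw [TensorProduct.AlgebraTensorModule.cancelBaseChange_tmul, bcMap_tmul]
      refine Eq.trans ?_ (bcMap_tmul k M b _).symm
      show ((O.map k.op).hom (show O.obj (op Z) from a) * (show O.obj (op W) from b)) • sres M (k ≫ g) x =
        (show O.obj (op W) from b) • sres M k ((show O.obj (op Z) from a) • sres M g x)
      rw [sres_smul, sres_sres, mul_comm, mul_smul]

theorem injective_of_comp (hg : Cart g M) (hkg : Function.Injective (bcMap (k ≫ g) M)) :
    Function.Injective (bcMap k M) := by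
  obtain ⟨e, he⟩ := exists_cancel g k M
  let eg := LinearEquiv.ofBijective (bcLin g M) hg
  intro a b hab
  obtain ⟨a', rfl⟩ := (LinearEquiv.lTensor (Rg O k) eg).surjective a
  obtain ⟨b', rfl⟩ := (LinearEquiv.lTensor (Rg O k) eg).surjective b
  refine congrArg _ (e.injective (hkg ?_))
  exact (he a').trans (hab.trans (he b').symm)

theorem cart_of_comp (hg : Cart g M) (hkg : Cart (k ≫ g) M) : Cart k M := by
  refine ⟨injective_of_comp g k M hg hkg.1, fun y => ?_⟩
  obtain ⟨e, he⟩ := exists_cancel g k M
  obtain ⟨x, hx⟩ := hkg.2 y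
  obtain ⟨z, rfl⟩ := e.surjective x
  exact ⟨_, (he z).symm.trans hx⟩

/-- Base change along a square of a restriction with injective comparison. -/
theorem injective_mixMap {Z' Q : C} {g' : Z' ⟶ E} {p : Q ⟶ Z} {q : Q ⟶ Z'}
    (sq : IsRingSq (O := O) g g' p q) (hc : Function.Injective (bcMap p M)) :
    Function.Injective (mixMap g M g' p q sq.w) := by
  let A := O.obj (op E)
  letI : Algebra (Rg O g) (Rg O p) := (O.map p.op).hom.toAlgebra
  letI : Algebra (Rg O g') (Rg O p) := RingHom.toAlgebra (S := Rg O p) (O.map q.op).hom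
  letI : Algebra A (Rg O p) := RingHom.toAlgebra (S := Rg O p) ((O.map p.op).hom.comp (O.map g.op).hom)
  haveI : IsScalarTower A (Rg O g) (Rg O p) := IsScalarTower.of_algebraMap_eq fun _ => rfl
  haveI : IsScalarTower A (Rg O g') (Rg O p) := IsScalarTower.of_algebraMap_eq fun a => by
    show (O.map p.op).hom ((O.map g.op).hom a) = (O.map q.op).hom ((O.map g'.op).hom a)
    rw [← CommRingCat.comp_apply, ← CommRingCat.comp_apply, ← O.map_comp, ← O.map_comp, ← op_comp, ← op_comp, sq.w]
  haveI : Algebra.IsPushout A (Rg O g') (Rg O g) (Rg O p) :=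
    CommRingCat.isPushout_iff_isPushout.1 (show CategoryTheory.IsPushout
      (CommRingCat.ofHom (algebraMap A (Rg O g'))) (CommRingCat.ofHom (algebraMap A (Rg O g)))
      (CommRingCat.ofHom (algebraMap (Rg O g') (Rg O p))) (CommRingCat.ofHom (algebraMap (Rg O g) (Rg O p))) from
      sq.pushout.flip)
  let e := Algebra.IsPushout.cancelBaseChange A (Rg O g') (Rg O g) (Rg O p) (Sec M g)
  have key : ∀ y : Rg O g' ⊗[A] Sec M g, mixMap g M g' p q sq.w y =
      (show M.obj (op Q) from bcMap p M (e.symm y)) := fun y => by
    induction y using TensorProduct.induction_on with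
    | zero => rw [map_zero, map_zero]; exact (map_zero (bcMap p M)).symm
    | add a b ha hb =>
      rw [map_add, map_add, ha, hb]
      exact (map_add (bcMap p M) _ _).symm
    | tmul b x =>
      rw [mixMap_tmul, Algebra.IsPushout.cancelBaseChange_symm_tmul]
      exact (bcMap_tmul p M (algebraMap (Rg O g') (Rg O p) b) x).symm
  rw [show (mixMap g M g' p q sq.w : _ → _) = (fun z => (show M.obj (op Q) from bcMap p M z)) ∘ e.symm from funext key]
  exact hc.comp e.symm.injective

end Groth.Agent.EtClImm

namespace Groth.Agent.EtClImm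

variable {C : Type u₁} [Category.{v₁} C] {J : GrothendieckTopology C} {R : Sheaf J CommRingCat.{w}}
  [J.HasSheafCompose (forget₂ CommRingCat.{w} RingCat.{w})] {b : AffBasis J R.obj}

attribute [local instance] idAlg

/-- If every affine object over `U` has a covering by morphisms along which `M` is cartesian over `U`,
then `M` is cartesian on the affine objects over `U`. -/
theorem isCartOver_of_covers (M : SheafOfModules.{w} (RS R)) {U : C}
    (hcov : ∀ ⦃T : C⦄, b.aff T → ∀ h : T ⟶ U, ∃ c : Cover J R.obj b.aff T, ∀ i, Cart (c.m i ≫ h) (psh (R := R) M)) :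
    b.IsCartOver (psh (R := R) M) U := by
  have inj : ∀ ⦃T : C⦄, b.aff T → ∀ h : T ⟶ U, Function.Injective (bcMap h (psh (R := R) M)) := by
    intro T hT h
    obtain ⟨c, hc⟩ := hcov hT h
    refine (injective_iff_map_eq_zero _).2 fun z hz => c.ff _ z fun i => ?_
    obtain ⟨e, he⟩ := exists_cancel h (c.m i) (psh (R := R) M)
    refine e.injective ((hc i).1 ?_)
    rw [map_zero, map_zero]
    refine (he _).trans ?_
    rw [LinearMap.lTensor_tmul, show bcLin h (psh (R := R) M) z = 0 from hz, TensorProduct.tmul_zero]
    exact map_zero (bcMap (c.m i) (psh (R := R) M))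
  have cart : ∀ ⦃T : C⦄, b.aff T → ∀ h : T ⟶ U, Cart h (psh (R := R) M) := by
    intro T hT h
    obtain ⟨c, hc⟩ := hcov hT h
    refine ⟨inj hT h, fun y => ?_⟩
    let A := R.obj.obj (op T)
    let d := bcLin h (psh (R := R) M)
    obtain ⟨z, hz⟩ := mem_range_of_cover c d (show (psh (R := R) M).obj (op T) from y) fun l => by
      let B := Rg R.obj (c.m l)
      haveI : Module.Flat A B := b.flat hT (c.aff_Z l) (c.m l)
      obtain ⟨e, he⟩ := exists_cancel h (c.m l) (psh (R := R) M)
      obtain ⟨x, hx⟩ := (hc l).2 (sres (psh (R := R) M) (c.m l) y)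
      refine ⟨e.symm x, ?_⟩
      have hw : (show (psh (R := R) M).obj (op (c.Z l)) from bcMap (c.m l) (psh (R := R) M) (d.lTensor B (e.symm x))) =
          sres (psh (R := R) M) (c.m l) y := by
        refine Eq.trans (he (e.symm x)).symm ?_
        rw [e.apply_symm_apply]
        exact hx
      let r : (psh (R := R) M).obj (op T) →ₗ[A] ∀ i, Sec (psh (R := R) M) (c.m i) := LinearMap.pi fun i => res (c.m i) (psh (R := R) M)
      have rinj : Function.Injective r := fun s s' hs => ext_of_ofArrows M c.mem s s' fun i => congrFun hs i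
      refine Module.Flat.lTensor_preserves_injective_linearMap r rinj ?_
      refine (TensorProduct.piRight A A B fun i => Sec (psh (R := R) M) (c.m i)).injective (funext fun i => ?_)
      let sq := b.isRingSq hT (c.aff_Z i) (c.aff_Z l) (c.m i) (c.m l)
      let p := b.fst hT (c.aff_Z i) (c.aff_Z l) (c.m i) (c.m l)
      let q := b.snd hT (c.aff_Z i) (c.aff_Z l) (c.m i) (c.m l)
      have hp : Function.Injective (bcMap p (psh (R := R) M)) :=
        injective_of_comp _ p (psh (R := R) M) (hc i) (inj (b.aff_prod hT _ _ _ _) _)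
      refine injective_mixMap (c.m i) (psh (R := R) M) sq hp ?_
      have key : ∀ v : B ⊗[A] (psh (R := R) M).obj (op T),
          mixMap (c.m i) (psh (R := R) M) (c.m l) p q sq.w
              (TensorProduct.piRight A A B (fun i => Sec (psh (R := R) M) (c.m i)) (r.lTensor B v) i) =
            sres (psh (R := R) M) q (bcMap (c.m l) (psh (R := R) M) v) := fun v => by
        induction v using TensorProduct.induction_on with
        | zero =>
          rw [map_zero, map_zero, Pi.zero_apply, map_zero, map_zero]
          exact (map_zero (sres (psh (R := R) M) q)).symm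
        | add y y' hy hy' =>
          rw [map_add, map_add, Pi.add_apply, map_add, hy, hy', map_add]
          exact (map_add (sres (psh (R := R) M) q) _ _).symm
        | tmul t s =>
          rw [LinearMap.lTensor_tmul, TensorProduct.piRight_apply, TensorProduct.piRightHom_tmul]
          show _ = sres (psh (R := R) M) q ((bcMap (c.m l) (psh (R := R) M)) (t ⊗ₜ s))
          rw [bcMap_tmul]
          refine (mixMap_tmul _ _ _ _ _ _ _ _).trans ?_
          refine Eq.trans ?_ (sres_smul (psh (R := R) M) q (show R.obj.obj (op (c.Z l)) from t) (sres (psh (R := R) M) (c.m l) s)).symm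
          refine congrArg (fun v => (R.obj.map q.op).hom t • v) ?_
          exact (sres_sres (psh (R := R) M) (c.m i) p s).trans ((congrArg (fun f => sres (psh (R := R) M) f s) sq.w).trans
            (sres_sres (psh (R := R) M) (c.m l) q s).symm)
      rw [key, key]
      refine congrArg (sres (psh (R := R) M) q) (hw.trans ?_)
      rw [bcMap_tmul, one_smul]
      rfl
    exact ⟨z, hz⟩
  intro T T' hT hT' h k
  exact cart_of_comp h k _ (cart hT h) (cart hT' (k ≫ h))

end Groth.Agent.EtClImm
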