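import Groth.Agent.EtClImm.Mod
import Groth.Agent.EtClImm.CartDesc
import Groth.Agent.QCart.EtBasis

/-!
# A module on a closed subspace with quasi-coherent direct image is quasi-coherent
-/

set_option autoImplicit false
set_option linter.style.haveILetI false
set_option backward.isDefEq.respectTransparency false
set_option backward.isDefEq.respectTransparency.types false

universe u

open CategoryTheory CategoryTheory.Limits AlgebraicGeometry Opposite AlgSp TensorProduct Groth.Agent.QCart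

namespace Groth.Agent.EtClImm

variable {S : Scheme.{u}} {Z X : Sp S} {f : Z ⟶ X}

/-- A jointly surjective family of affine objects over an affine object contains a finite covering. -/
theorem exists_cover_of_surjective {T : EtOver X} (hT : IsAff X T) {ι : Type*} (Y : ι → EtOver X)
    (m : ∀ i, Y i ⟶ T) (hY : ∀ i, IsAff X (Y i))
    (h : ∀ x : T.obj.left.left, ∃ i, x ∈ Set.range (m i).hom.left.left.base)
    (P : ∀ W : EtOver X, (W ⟶ T) → Prop) (hP : ∀ i, P (Y i) (m i)) :
    ∃ c : Cover (etTop X) (OEt X).obj (IsAff X) T, ∀ k, P (c.Z k) (c.m k) := by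
  classical
  haveI : IsAffine T.obj.left.left := hT
  have hopen : ∀ i, IsOpen (Set.range (m i).hom.left.left) := fun i => by
    haveI := EtOver.etale_left (m i)
    exact (m i).hom.left.left.isOpenMap.isOpen_range
  obtain ⟨t, ht⟩ := isCompact_univ.elim_finite_subcover _ hopen fun x _ => Set.mem_iUnion.2 (h x)
  let e := t.equivFin.symm
  have hsurj : ∀ x, ∃ k, x ∈ Set.range (m (e k)).hom.left.left := fun x => by
    obtain ⟨x₀, hx₀, hx⟩ := Set.mem_iUnion₂.1 (ht (Set.mem_univ x))
    exact ⟨e.symm ⟨x₀, hx₀⟩, by rwa [e.apply_symm_apply]⟩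
  refine ⟨{ n := t.card, Z := fun k => Y (e k), m := fun k => m (e k), aff_Z := fun k => hY (e k),
            mem := AlgSp.ofArrows_mem_etTop _ _ hsurj, ff := fun N _ _ x hx => ?_ }, fun k => hP (e k)⟩
  by_contra hne
  obtain ⟨p, hp⟩ := exists_prime_of_ne_zero (A := (OEt X).obj.obj (op T)) hne
  let up := (ULift.ringEquiv.{u, u + 1} (R := Γ(T.obj.left.left, ⊤))).symm
  let p₀ : PrimeSpectrum Γ(T.obj.left.left, ⊤) := PrimeSpectrum.comap up.toRingHom p
  obtain ⟨k, z, hz⟩ := hsurj (T.obj.left.left.isoSpec.inv p₀)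
  haveI : IsAffine (Y (e k)).obj.left.left := hY (e k)
  have hq := exists_comap_appTop_eq (m (e k)).hom.left.left p₀ z hz
  let q : PrimeSpectrum Γ((Y (e k)).obj.left.left, ⊤) := (Y (e k)).obj.left.left.isoSpec.hom z
  let q' : PrimeSpectrum ((OEt X).obj.obj (op (Y (e k)))) :=
    PrimeSpectrum.comap (ULift.ringEquiv.{u, u + 1}).toRingHom q
  haveI := algebraMap_flat X hT (hY (e k)) (m (e k))
  let q₂ : Ideal (Rg (OEt X).obj (m (e k))) := q'.asIdeal
  haveI : q₂.IsPrime := q'.isPrime
  refine tmul_ne_zero_of_prime (B := Rg (OEt X).obj (m (e k))) q₂ ?_ (hx k)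
  refine hp.trans (le_of_eq ?_)
  ext a
  have h := SetLike.ext_iff.1 (congrArg PrimeSpectrum.asIdeal hq) (ULift.down a)
  exact h.symm

variable (hf : Representable f)

theorem isAffine_bc (hi : RepWith @IsClosedImmersion f) (E : EtOver X) (hE : IsAffine E.obj.left.left) :
    IsAffine (EtOver.bcObj hf E).obj.left.left := by
  have : IsClosedImmersion (EtOver.bcπ hf E).left := hi.2 _ _ _ (hf.isPullback E.obj.hom)
  exact (IsClosedImmersion.isAffine_surjective_of_isAffine (EtOver.bcπ hf E).left).1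

set_option maxHeartbeats 1000000 in
/-- Cartesianness along a base changed morphism. -/
theorem cart_bc (hi : RepWith @IsClosedImmersion f) (G : ModEt Z) {E E₂ : EtOver X}
    (hE₂ : IsAffine E₂.obj.left.left) (l : E₂ ⟶ E)
    (hc : Cart l (psh (R := OEt X) ((pushModEt hf).obj G))) :
    Cart ((EtOver.bc hf).map l) (psh (R := OEt Z) G) := by
  let P := psh (R := OEt X) ((pushModEt hf).obj G)
  let N := psh (R := OEt Z) G
  let φ := ((bcRingHom hf).hom.app (op E)).hom
  let φ₂ := ((bcRingHom hf).hom.app (op E₂)).hom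
  let π : Rg (OEt X).obj l ⊗[(OEt X).obj.obj (op E)] P.obj (op E) →+
      Rg (OEt Z).obj ((EtOver.bc hf).map l) ⊗[(OEt Z).obj.obj (op (EtOver.bcObj hf E))]
        N.obj (op (EtOver.bcObj hf E)) :=
    TensorProduct.liftAddHom
      (AddMonoidHom.mk' (fun b => AddMonoidHom.mk'
          (fun x => (show Rg (OEt Z).obj ((EtOver.bc hf).map l) from φ₂ b) ⊗ₜ
            (show N.obj (op (EtOver.bcObj hf E)) from x))
          fun x y => tmul_add _ _ _)
        fun b b' => AddMonoidHom.ext fun x =>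
          (congrArg (fun c : Rg (OEt Z).obj ((EtOver.bc hf).map l) =>
            c ⊗ₜ[(OEt Z).obj.obj (op (EtOver.bcObj hf E))] (show N.obj (op (EtOver.bcObj hf E)) from x))
            (map_add φ₂ b b')).trans (add_tmul _ _ _))
      fun a b x => by
        refine Eq.trans ?_ (TensorProduct.smul_tmul (show (OEt Z).obj.obj (op (EtOver.bcObj hf E)) from φ a)
          (show Rg (OEt Z).obj ((EtOver.bc hf).map l) from φ₂ b) (show N.obj (op (EtOver.bcObj hf E)) from x))
        refine congrArg (fun c : Rg (OEt Z).obj ((EtOver.bc hf).map l) =>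
            c ⊗ₜ[(OEt Z).obj.obj (op (EtOver.bcObj hf E))] (show N.obj (op (EtOver.bcObj hf E)) from x)) ?_
        refine (map_mul φ₂ _ _).trans (congrArg₂ (fun s t : (OEt Z).obj.obj (op (EtOver.bcObj hf E₂)) => s * t) ?_ rfl)
        exact RingHom.congr_fun (congrArg RingCat.Hom.hom ((bcRingHom hf).hom.naturality l.op)) a
  have hπ : Function.Surjective π := fun z => by
    induction z using TensorProduct.induction_on with
    | zero => exact ⟨0, map_zero π⟩
    | add a b ha hb =>
      obtain ⟨a', rfl⟩ := ha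
      obtain ⟨b', rfl⟩ := hb
      exact ⟨a' + b', map_add π _ _⟩
    | tmul b x =>
      obtain ⟨a, ha⟩ := surjective_bcRingHom hf hi E₂ hE₂ b
      exact ⟨(show Rg (OEt X).obj l from a) ⊗ₜ (show P.obj (op E) from x),
        congrArg (fun c : Rg (OEt Z).obj ((EtOver.bc hf).map l) => c ⊗ₜ[(OEt Z).obj.obj (op (EtOver.bcObj hf E))] x) ha⟩
  have key : ∀ z, (show G.val.obj (op (EtOver.bcObj hf E₂)) from bcMap ((EtOver.bc hf).map l) N (π z)) =
      (show G.val.obj (op (EtOver.bcObj hf E₂)) from bcMap l P z) := fun z => by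
    induction z using TensorProduct.induction_on with
    | zero => rw [map_zero, map_zero, map_zero]
    | add a b ha hb =>
      rw [map_add, map_add, map_add]
      exact congrArg₂ (fun s t : G.val.obj (op (EtOver.bcObj hf E₂)) => s + t) ha hb
    | tmul b x =>
      rw [bcMap_tmul]
      exact bcMap_tmul ((EtOver.bc hf).map l) N _ _
  refine ⟨fun a b hab => ?_, fun y => ?_⟩
  · obtain ⟨a', rfl⟩ := hπ a
    obtain ⟨b', rfl⟩ := hπ b
    exact congrArg π (hc.1 ((key a').symm.trans ((show _ = _ from hab).trans (key b'))))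
  · obtain ⟨x, hx⟩ := hc.2 y
    exact ⟨π x, (key x).trans hx⟩

theorem isQuasicoherent_of_push (H : Hyp f) (hi : RepWith @IsClosedImmersion f) (G : ModEt Z)
    (hG : ((pushModEt hf).obj G).IsQuasicoherent) : G.IsQuasicoherent := by
  rw [isQuasicoherent_iff] at hG ⊢
  have := H.isLocallyFull (hf := hf)
  refine AffBasis.IsCartLocal.isCart (b := etBasis Z) (M := G) fun T _ => ?_
  choose E hE ψ hψ using exists_bc_hom_affine hf H T
  refine ⟨_, ofArrows_mem_etTop (fun w => EtOver.bcObj hf (E w)) ψ fun w => ⟨w, hψ w⟩, fun W g hg => ?_⟩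
  obtain ⟨_, a, _, ⟨w⟩, rfl⟩ := hg
  suffices hover : (etBasis Z).IsCartOver (psh (R := OEt Z) G) (EtOver.bcObj hf (E w)) by
    intro T₁ T₂ h₁ h₂ u k
    exact hover h₁ h₂ (u ≫ a) k
  refine isCartOver_of_covers (R := OEt Z) G fun T₁ hT₁ h => ?_
  have hmem : ∀ x : T₁.obj.left.left, ∃ (E₂ : EtOver X) (_ : IsAffine E₂.obj.left.left)
      (m : EtOver.bcObj hf E₂ ⟶ T₁) (l : E₂ ⟶ E w),
      m ≫ h = (EtOver.bc hf).map l ∧ x ∈ Set.range m.hom.left.left.base := by
    intro x
    obtain ⟨E₁, -, θ, z, hz⟩ := exists_bc_hom_affine hf H T₁ x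
    obtain ⟨W₁, _, ⟨E₂, j, d, ⟨l, hl⟩, rfl⟩, v, hv⟩ := exists_of_mem_etTop
      ((EtOver.bc hf).functorPushforward_imageSieve_mem (etTop Z) (U := E₁) (V := E w) (θ ≫ h)) z
    obtain ⟨O, hO, hvO, -⟩ := exists_isAffineOpen_mem_and_subset (U := (⊤ : E₂.obj.left.left.Opens))
      (x := (EtOver.bcπ hf E₂).left.base (d.hom.left.left.base v)) trivial
    obtain ⟨v', hv'⟩ := exists_point_bc_etTo hf E₂ O.ι (d.hom.left.left.base v) ⟨_, hvO⟩ rfl
    refine ⟨etOf E₂ O.ι, hO, (EtOver.bc hf).map (etTo E₂ O.ι ≫ j) ≫ θ, etTo E₂ O.ι ≫ l, ?_, v', ?_⟩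
    · rw [Functor.map_comp, Functor.map_comp, Category.assoc, Category.assoc, hl]
    · rw [Functor.map_comp]
      show θ.hom.left.left.base (((EtOver.bc hf).map j).hom.left.left.base
        ((EtOver.bcMap hf (etTo E₂ O.ι)).hom.left.left.base v')) = x
      rw [hv', ← hz]
      exact congrArg _ hv
  choose E₂ hE₂ m l hl hm using hmem
  refine exists_cover_of_surjective hT₁ (fun x => EtOver.bcObj hf (E₂ x)) m
    (fun x => isAffine_bc hf hi (E₂ x) (hE₂ x)) (fun x => ⟨x, hm x⟩)
    (fun W k => Cart (k ≫ h) (psh (R := OEt Z) G)) fun x => ?_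
  rw [hl]
  exact cart_bc hf hi G (hE₂ _) _ (hG (hE w) (hE₂ _) _)

end Groth.Agent.EtClImm
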