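import Groth.Agent.EtClImm.Annihil
import Groth.Agent.EtClImm.ClosedQC
import Groth.Agent.QCart.Sub
import Groth.Agent.QCart.Largest
import Groth.Agent.QCart.Colim
import Mathlib.CategoryTheory.Adjunction.Basic

/-!
# The right adjoint of direct image of quasi-coherent modules along a closed immersion
-/

set_option autoImplicit false
set_option linter.style.haveILetI false
set_option backward.isDefEq.respectTransparency false
set_option backward.isDefEq.respectTransparency.types false

universe u

open CategoryTheory CategoryTheory.Limits AlgebraicGeometry Opposite AlgSp Groth.Agent.QCart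

namespace Groth.Agent.EtClImm

variable {S : Scheme.{u}} {Z X : Sp S} {f : Z ⟶ X} (hf : Representable f) (F : ModEt X)

/-- The sections over an affine object killed by all kernels over it. -/
noncomputable def kilSub (E : EtOver X) :
    Submodule ((OEt X).obj.obj (op E)) ((psh (R := OEt X) F).obj (op E)) where
  carrier := {s | ∀ (T : EtOver X), IsAffine T.obj.left.left → ∀ (g : T ⟶ E) (a : (OEt X).obj.obj (op T)),
    ((bcRingHom hf).hom.app (op T)).hom a = 0 → a • sres (psh (R := OEt X) F) g s = 0}
  add_mem' := fun {x y} hx hy T hT g a ha => by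
    rw [map_add, smul_add, hx T hT g a ha, hy T hT g a ha, add_zero]
  zero_mem' := fun T hT g a ha => by rw [map_zero, smul_zero]
  smul_mem' := fun c x hx T hT g a ha => by
    rw [sres_smul, smul_comm, hx T hT g a ha, smul_zero]

/-- The sections killed by the kernels. -/
noncomputable def kilData : SubData (R := OEt X) F (etBasis X) where
  A E _ := kilSub hf F E
  res_mem := by
    intro E E' _ _ g x hx T hT g' a ha
    rw [sres_sres]
    exact hx T hT _ a ha
  local_mem := by
    intro E _ c x hx T hT g a ha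
    refine ab_ext ((SheafOfModules.toSheaf _).obj F) T _ _ fun w => ?_
    obtain ⟨W, k, hk, hw⟩ := exists_of_mem_etTop ((etTop X).pullback_stable g c.mem) w
    obtain ⟨i, k', hk'⟩ := (Sieve.mem_ofArrows_iff _ _ _).1 hk
    obtain ⟨v, hv⟩ := hw
    obtain ⟨O, hO, hvO, -⟩ := exists_isAffineOpen_mem_and_subset (U := (⊤ : W.obj.left.left.Opens)) (x := v) trivial
    refine ⟨_, etTo W O.ι ≫ k, ⟨⟨v, hvO⟩, hv⟩, ?_⟩
    show sres (psh (R := OEt X) F) (etTo W O.ι ≫ k) (a • sres (psh (R := OEt X) F) g x) =
      sres (psh (R := OEt X) F) (etTo W O.ι ≫ k) 0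
    rw [map_zero, sres_smul, sres_sres, Category.assoc, hk', ← Category.assoc, ← sres_sres]
    refine hx i (etOf W O.ι) hO (etTo W O.ι ≫ k') _ ?_
    refine (RingHom.congr_fun (congrArg RingCat.Hom.hom
      ((bcRingHom hf).hom.naturality (etTo W O.ι ≫ k).op)) a).trans ?_
    show (OEtRing Z).obj.map ((EtOver.bc hf).map (etTo W O.ι ≫ k)).op
      (((bcRingHom hf).hom.app (op T)).hom a) = 0
    rw [ha]
    exact map_zero _

theorem killedBy_kilData : KilledBy hf (kilData hf F).shf := by
  intro E hE a ha s
  refine Subtype.ext ?_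
  have h := ((kilData hf F).mem_sec_iff hE _).1 s.2 E hE (𝟙 E) a ha
  rw [sres_id] at h
  exact h

theorem killedBy_of_mono {G H : ModEt X} (κ : G ⟶ H) [Mono κ] (hH : KilledBy hf H) : KilledBy hf G := by
  intro E hE a ha x
  refine injective_app_of_mono (R := OEt X) κ E ?_
  exact ((κ.val.app (op E)).hom.map_smul a x).trans
    ((hH E hE a ha _).trans (map_zero (κ.val.app (op E)).hom).symm)

theorem killedBy_push (G : ModEt Z) : KilledBy hf ((pushModEt hf).obj G) := by
  intro E _ a ha x
  show ((bcRingHom hf).hom.app (op E)).hom a • (show G.val.obj (op (EtOver.bcObj hf E)) from x) = 0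
  rw [ha]
  exact zero_smul _ _

variable {hf F} in
theorem exists_lift_kilData {P : ModEt X} (hP : KilledBy hf P) (φ : P ⟶ F) :
    ∃ χ : P ⟶ (kilData hf F).shf, χ ≫ (kilData hf F).ι = φ := by
  have hmem : ∀ (W : EtOver X) (x : P.val.obj (op W)),
      (show (psh (R := OEt X) F).obj (op W) from φ.val.app (op W) x) ∈ (kilData hf F).sec W := by
    intro W x E hE g T hT k a ha
    rw [sres_sres]
    rw [show sres (psh (R := OEt X) F) (k ≫ g) (φ.val.app (op W) x) =
      φ.val.app (op T) (P.val.map (k ≫ g).op x) from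
        (PresheafOfModules.naturality_apply φ.val (k ≫ g).op x).symm]
    refine ((φ.val.app (op T)).hom.map_smul a _).symm.trans ?_
    rw [hP T hT a ha]
    exact map_zero (φ.val.app (op T)).hom
  let χv : P.val ⟶ (kilData hf F).pre :=
    { app := fun W => ModuleCat.ofHom (Y := (kilData hf F).sec W.unop)
        { toFun := fun x => ⟨φ.val.app W x, hmem W.unop x⟩
          map_add' := fun x y => Subtype.ext ((φ.val.app W).hom.map_add x y)
          map_smul' := fun a x => Subtype.ext ((φ.val.app W).hom.map_smul a x) }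
      naturality := fun {W W'} g => ModuleCat.hom_ext (LinearMap.ext fun x =>
        Subtype.ext (PresheafOfModules.naturality_apply φ.val g x)) }
  exact ⟨⟨χv⟩, rfl⟩

set_option maxHeartbeats 1000000 in
theorem isLeftAdjoint_push_qcoh (H : Hyp f) (hi : RepWith @IsClosedImmersion f)
    (hq : ∀ G : ModEt Z, G.IsQuasicoherent → ((pushModEt hf).obj G).IsQuasicoherent) :
    ((SheafOfModules.isQuasicoherent (OEtRing X)).lift
        ((SheafOfModules.isQuasicoherent (OEtRing Z)).ι ⋙ pushModEt hf)
        (fun G => hq G.obj G.property)).IsLeftAdjoint := by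
  let L := (SheafOfModules.isQuasicoherent (OEtRing X)).lift
        ((SheafOfModules.isQuasicoherent (OEtRing Z)).ι ⋙ pushModEt hf) (fun G => hq G.obj G.property)
  have main : ∀ F : (SheafOfModules.isQuasicoherent (OEtRing X)).FullSubcategory,
      ∃ (G : (SheafOfModules.isQuasicoherent (OEtRing Z)).FullSubcategory) (ε : L.obj G ⟶ F),
        ∀ P, Function.Bijective (fun φ : P ⟶ G => L.map φ ≫ ε) := by
    intro F
    obtain ⟨G', κ, hκm, hG', huniv⟩ := AffBasis.IsCart.exists_largest (R := OEt X) (b := etBasis X)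
      ((isQuasicoherent_iff X F.obj).1 F.property) (kilData hf F.obj).ι
    obtain ⟨G, ⟨e⟩⟩ := exists_push_iso H hi (killedBy_of_mono hf κ (killedBy_kilData hf F.obj))
    have hGq : G.IsQuasicoherent := isQuasicoherent_of_push hf H hi G
      ((isQuasicoherent_iff X _).2 (AffBasis.IsCart.of_iso (R := OEt X) hG' e.symm))
    have : (pushModEt hf).Faithful := faithful_pushModEt H
    have : (pushModEt hf).Full := full_pushModEt H hi
    refine ⟨⟨G, hGq⟩, ObjectProperty.homMk (e.hom ≫ κ ≫ (kilData hf F.obj).ι), fun P => ⟨fun a b hab => ?_, fun ψ => ?_⟩⟩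
    · refine ObjectProperty.hom_ext _ ((pushModEt hf).map_injective ?_)
      have h : (pushModEt hf).map a.hom ≫ e.hom ≫ κ ≫ (kilData hf F.obj).ι =
          (pushModEt hf).map b.hom ≫ e.hom ≫ κ ≫ (kilData hf F.obj).ι := congrArg (fun t => t.hom) hab
      simp only [← Category.assoc] at h
      exact (cancel_mono e.hom).1 ((cancel_mono κ).1 ((cancel_mono (kilData hf F.obj).ι).1 h))
    · obtain ⟨χ, hχ⟩ := exists_lift_kilData (killedBy_push hf P.obj) ψ.hom
      obtain ⟨θ, hθ⟩ := (huniv _ ((isQuasicoherent_iff X _).1 (hq _ P.property))).2 χ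
      refine ⟨ObjectProperty.homMk ((pushModEt hf).preimage (θ ≫ e.inv)), ObjectProperty.hom_ext _ ?_⟩
      show (pushModEt hf).map ((pushModEt hf).preimage (θ ≫ e.inv)) ≫ e.hom ≫ κ ≫ (kilData hf F.obj).ι = ψ.hom
      rw [Functor.map_preimage, Category.assoc, e.inv_hom_id_assoc]
      exact ((Category.assoc _ _ _).symm.trans (congrArg (· ≫ (kilData hf F.obj).ι) hθ)).trans hχ
  choose G ε hε using main
  let eqv : ∀ P F, (L.obj P ⟶ F) ≃ (P ⟶ G F) := fun P F => (Equiv.ofBijective _ (hε F P)).symm
  refine (Adjunction.adjunctionOfEquivRight eqv fun P' P F φ ψ => ?_).isLeftAdjoint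
  refine (Equiv.ofBijective _ (hε F P')).symm_apply_eq.2 ?_
  show _ = L.map (φ ≫ eqv P F ψ) ≫ ε F
  rw [Functor.map_comp, Category.assoc]
  exact congrArg (L.map φ ≫ ·) ((Equiv.ofBijective _ (hε F P)).apply_symm_apply ψ).symm

end Groth.Agent.EtClImm
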