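import Groth.Agent.EtClImm.Annihil
import Groth.Agent.EtClImm.ClosedQC
import Groth.Agent.EtClImm.RightAdj
import Groth.Agent.AlgSpMor.PushCart
import Groth.Agent.AlgSpQC10.FP
import Groth.Agent.AlgSpQC10.FT
import Groth.Prelude.Def_AlgSpModX

/-!
# Coherent modules killed by the ideal of a closed subspace
-/

set_option autoImplicit false
set_option linter.style.haveILetI false
set_option backward.isDefEq.respectTransparency false
set_option backward.isDefEq.respectTransparency.types false

universe u

open CategoryTheory CategoryTheory.Limits AlgebraicGeometry Opposite AlgSp Groth.Agent.AlgSpQC10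

namespace Groth.Agent.EtClImm

variable {S : Scheme.{u}} {Z X : Space S} {i : Z.obj ⟶ X.obj}

theorem isFiniteMor_of_closedImmersion (hi : RepWith @IsClosedImmersion i) : IsFiniteMor i := fun T hT g => by
  have : IsClosedImmersion (hi.1.snd g).left := hi.2 _ _ _ (hi.1.isPullback g)
  refine ⟨_, hi.1.snd g, hi.1.fst g, hi.1.isPullback g, ?_, inferInstance⟩
  exact (IsClosedImmersion.isAffine_surjective_of_isAffine (hi.1.snd g).left).1

theorem killedBy_iff (hi : RepWith @IsClosedImmersion i) {I : IdealEt X.obj} (hI : idealOfRep hi.1 = I)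
    (F : ModEt X.obj) : KilledBy hi.1 F ↔
      ∀ (E : EtOver X.obj) (hE : IsAffine E.obj.left.left) (s : sectModEt F E), I.ideal E hE ≤ annSect s := by
  subst hI
  constructor
  · intro h E hE s a ha
    rw [mem_annSect_iff]
    exact h E hE (upΓ E a) (ULift.ext _ _ ha) s
  · intro h E hE a ha x
    have := h E hE x (x := a.down) (congrArg ULift.down ha)
    exact (mem_annSect_iff x a.down).1 this

/-- Direct images of coherent modules along closed immersions are coherent and killed by the ideal. -/
theorem push_coherent (hi : RepWith @IsClosedImmersion i) (hX : IsLocNoethSp X.obj) (G : ModEt Z.obj)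
    [G.IsFinitePresentation] : ((pushModEt hi.1).obj G).IsFinitePresentation := by
  have hfin := isFiniteMor_of_closedImmersion hi
  have := AlgSpMor.isQuasicoherent_push_of_isAffineMor hi.1 (AlgSpMor.isAffineMor_of_isFiniteMor hfin) G
  exact isFinitePresentation_of_finite hX _ fun E hE =>
    haveI := hE; AlgSpMor.finite_push_sections hi.1 hfin G E

set_option maxHeartbeats 1000000 in
/-- A coherent module killed by the ideal is the direct image of a coherent module. -/
theorem exists_coherent_push_iso (hi : RepWith @IsClosedImmersion i) (hZN : IsLocNoethSp Z.obj) (M : ModEt X.obj)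
    [M.IsFinitePresentation] (hK : KilledBy hi.1 M) :
    ∃ G : ModEt Z.obj, G.IsFinitePresentation ∧ Nonempty ((pushModEt hi.1).obj G ≅ M) := by
  have H := Hyp.of_isClosedImmersion X.property hi
  obtain ⟨G, ⟨e⟩⟩ := exists_push_iso H hi hK
  have hq : ((pushModEt hi.1).obj G).IsQuasicoherent :=
    (SheafOfModules.isQuasicoherent (OEtRing X.obj)).prop_of_iso e.symm inferInstance
  have := isQuasicoherent_of_push hi.1 H hi G hq
  refine ⟨G, isFinitePresentation_of_finite hZN G fun T hT => ?_, ⟨e⟩⟩
  have key : ∀ E : EtOver X.obj, IsAffine E.obj.left.left →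
      Module.Finite (A (EtOver.bcObj hi.1 E)) (Msec G (EtOver.bcObj hi.1 E)) := fun E hE => by
    haveI := hE
    haveI : Module.Finite (A E) (Msec M E) := finite_Msec M E
    let φE := (φ hi.1 E).hom
    obtain ⟨t, ht⟩ := Module.Finite.fg_top (R := A E) (M := Msec M E)
    classical
    have hbij : Function.Bijective (e.hom.val.app (op E)) :=
      ConcreteCategory.bijective_of_isIso ((SheafOfModules.evaluation _ (op E)).map e.hom)
    let g : Msec M E → Msec G (EtOver.bcObj hi.1 E) := fun y => (Equiv.ofBijective _ hbij).symm y
    have hg : ∀ y, e.hom.val.app (op E) (g y) = y := fun y => (Equiv.ofBijective _ hbij).apply_symm_apply y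
    refine ⟨⟨t.image g, eq_top_iff.2 fun x _ => ?_⟩⟩
    have hx : e.hom.val.app (op E) x ∈ Submodule.span (A E) (t : Set (Msec M E)) := ht.ge Submodule.mem_top
    have hgen : ∀ z : Msec M E, z ∈ Submodule.span (A E) (t : Set (Msec M E)) →
        g z ∈ Submodule.span (A (EtOver.bcObj hi.1 E)) (t.image g : Set (Msec G (EtOver.bcObj hi.1 E))) := by
      intro z hz
      induction hz using Submodule.span_induction with
      | mem y hy => exact Submodule.subset_span (Finset.mem_coe.2 (Finset.mem_image_of_mem g hy))
      | zero =>
        have : g 0 = 0 := hbij.1 ((hg 0).trans (map_zero (e.hom.val.app (op E)).hom).symm)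
        rw [this]; exact Submodule.zero_mem _
      | add y z _ _ hy hz =>
        have : g (y + z) = g y + g z := hbij.1 ((hg _).trans ((congrArg₂ (fun a b : Msec M E => a + b) (hg y) (hg z)).symm.trans
          (map_add (e.hom.val.app (op E)).hom _ _).symm))
        rw [this]; exact Submodule.add_mem _ hy hz
      | smul r y _ hy =>
        have : g (r • y) = (show A (EtOver.bcObj hi.1 E) from φE r) • g y := hbij.1 ((hg _).trans
          ((congrArg (fun a : Msec M E => r • a) (hg y)).symm.trans ((e.hom.val.app (op E)).hom.map_smul r (g y)).symm))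
        rw [this]; exact Submodule.smul_mem _ _ hy
    have := hgen _ hx
    rwa [show g (e.hom.val.app (op E) x) = x from (Equiv.ofBijective _ hbij).symm_apply_apply x] at this
  choose E hE ψ hψ using exists_bc_hom_affine hi.1 H T
  obtain ⟨c, hc⟩ := exists_cover_of_surjective (X := Z.obj) hT (fun w => EtOver.bcObj hi.1 (E w)) ψ
    (fun w => isAffine_bc hi.1 hi (E w) (hE w)) (fun w => ⟨w, hψ w⟩)
    (fun W _ => Module.Finite (A W) (Msec G W)) fun w => key (E w) (hE w)
  exact finite_of_cover (isCart G) hT c hc

end Groth.Agent.EtClImm
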