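import Groth.Agent.EtClImm.Push
import Groth.Prelude.Def_AlgSpOX
import Mathlib.Algebra.Category.ModuleCat.Sheaf

/-!
# Direct images of modules along closed immersions are fully faithful
-/

set_option autoImplicit false
set_option backward.isDefEq.respectTransparency false
set_option backward.isDefEq.respectTransparency.types false

universe u

open CategoryTheory CategoryTheory.Limits AlgebraicGeometry Opposite AlgSp

namespace Groth.Agent.EtClImm

variable {S : Scheme.{u}} {Z X : Sp S} {f : Z ⟶ X} (hf : Representable f)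

/-- Every étale scheme over the source is covered by base changes of affine ones. -/
theorem exists_bc_hom_affine (H : Hyp f) (E' : EtOver Z) (w : E'.obj.left.left) :
    ∃ (E : EtOver X) (_ : IsAffine E.obj.left.left) (ψ : EtOver.bcObj hf E ⟶ E'),
      w ∈ Set.range ψ.hom.left.left.base := by
  obtain ⟨E, ψ, z, hz⟩ := exists_bc_hom hf H.space H.integral H.univInj E' w
  obtain ⟨O, hO, hzO, -⟩ := exists_isAffineOpen_mem_and_subset (U := (⊤ : E.obj.left.left.Opens))
    (x := (EtOver.bcπ hf E).left.base z) trivial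
  obtain ⟨z', hz'⟩ := exists_point_bc_etTo hf E O.ι z ⟨_, hzO⟩ rfl
  refine ⟨etOf E O.ι, hO, EtOver.bcMap hf (etTo E O.ι) ≫ ψ, z', ?_⟩
  show ((EtOver.bcMap hf (etTo E O.ι)).hom.left.left ≫ ψ.hom.left.left).base z' = w
  rw [Scheme.Hom.comp_apply, hz', hz]

theorem surjective_bcRingHom (hi : RepWith @IsClosedImmersion f) (E : EtOver X) (hE : IsAffine E.obj.left.left) :
    Function.Surjective ((bcRingHom hf).hom.app (op E)).hom := by
  have : IsClosedImmersion (EtOver.bcπ hf E).left := hi.2 _ _ _ (hf.isPullback E.obj.hom)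
  rintro ⟨r⟩
  obtain ⟨a, ha⟩ := (IsClosedImmersion.isAffine_surjective_of_isAffine (EtOver.bcπ hf E).left).2 r
  exact ⟨ULift.up a, ULift.ext _ _ ha⟩

variable {hf}

theorem ext_of_bc (H : Hyp f) (G : ModEt Z) (E' : EtOver Z) (x y : G.val.obj (op E'))
    (h : ∀ (E : EtOver X) (_ : IsAffine E.obj.left.left) (ψ : EtOver.bcObj hf E ⟶ E'),
      G.val.map ψ.op x = G.val.map ψ.op y) : x = y := by
  choose E hE ψ hψ using exists_bc_hom_affine hf H E'
  have hsep : Presieve.IsSeparated (etTop Z) (G.val.presheaf ⋙ CategoryTheory.forget AddCommGrpCat.{u + 1}) :=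
    ((isSheaf_iff_isSheaf_of_type _ _).1
      ((Presheaf.isSheaf_iff_isSheaf_forget _ _ (CategoryTheory.forget AddCommGrpCat.{u + 1})).1 G.isSheaf)).isSeparated
  refine (hsep _ (ofArrows_mem_etTop (fun w => EtOver.bcObj hf (E w)) ψ fun w => ⟨w, hψ w⟩)).ext
    fun W g hg => ?_
  obtain ⟨_, a, _, ⟨w⟩, rfl⟩ := hg
  show G.val.presheaf.map (a ≫ ψ w).op x = G.val.presheaf.map (a ≫ ψ w).op y
  rw [op_comp, Functor.map_comp]
  exact congrArg (fun q => G.val.presheaf.map a.op q) (h (E w) (hE w) (ψ w))

theorem faithful_pushModEt (H : Hyp f) : (pushModEt hf).Faithful where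
  map_injective {G G'} φ φ' e := by
    refine SheafOfModules.hom_ext (PresheafOfModules.hom_ext ?_)
    intro E'
    refine ModuleCat.hom_ext (LinearMap.ext fun x => ?_)
    refine ext_of_bc (hf := hf) H G' E'.unop _ _ fun E _ ψ => ?_
    have e' := LinearMap.congr_fun (congrArg ModuleCat.Hom.hom
      (congrArg (fun k => k.val.app (op E)) e)) (G.val.map ψ.op x)
    exact (PresheafOfModules.naturality_apply φ.val ψ.op x).symm.trans
      (e'.trans (PresheafOfModules.naturality_apply φ'.val ψ.op x))

theorem full_pushModEt (H : Hyp f) (hi : RepWith @IsClosedImmersion f) : (pushModEt hf).Full where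
  map_surjective {G G'} g := by
    have := full_pushEt (hf := hf) H AddCommGrpCat.{u + 1}
    let A : AbEt Z := (SheafOfModules.toSheaf _).obj G
    let A' : AbEt Z := (SheafOfModules.toSheaf _).obj G'
    obtain ⟨φ, hφ⟩ := (pushEt hf AddCommGrpCat.{u + 1}).map_surjective
      (show (pushEt hf _).obj A ⟶ (pushEt hf _).obj A' from (SheafOfModules.toSheaf _).map g)
    have hφ' : ∀ (E : EtOver X) (x : G.val.obj (op (EtOver.bcObj hf E))),
        φ.hom.app (op (EtOver.bcObj hf E)) x = g.val.app (op E) x := fun E x => by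
      have h1 := NatTrans.congr_app (congrArg InducedCategory.Hom.hom hφ) (op E)
      exact ConcreteCategory.congr_hom h1 x
    refine ⟨⟨PresheafOfModules.homMk φ.hom ?_⟩, ?_⟩
    · intro E' r m
      refine ext_of_bc (hf := hf) H G' E'.unop _ _ fun E hE ψ => ?_
      obtain ⟨a, ha⟩ := surjective_bcRingHom hf hi E hE ((OEtRing Z).obj.map ψ.op r)
      have n1 := ConcreteCategory.congr_hom (φ.hom.naturality ψ.op) (r • m)
      have n2 := ConcreteCategory.congr_hom (φ.hom.naturality ψ.op) m
      erw [PresheafOfModules.map_smul]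
      refine n1.symm.trans ?_
      refine (congrArg _ (PresheafOfModules.map_smul _ _ _ _)).trans ?_
      refine ((hφ' E _).trans ?_)
      rw [← ha]
      refine (LinearMap.map_smul (g.val.app (op E)).hom a (G.val.map ψ.op m)).trans ?_
      have key := (hφ' E (G.val.map ψ.op m)).symm.trans n2
      exact (congrArg (fun q : ((pushModEt hf).obj G').val.obj (op E) => a • q) key).trans rfl
    · refine SheafOfModules.hom_ext (PresheafOfModules.hom_ext ?_)
      intro E
      exact ModuleCat.hom_ext (LinearMap.ext fun x => hφ' E.unop x)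

theorem isIso_counit_mod (H : Hyp f) (hi : RepWith @IsClosedImmersion f)
    [(SheafOfModules.pushforward.{u + 1} (bcRingHom hf)).IsRightAdjoint] :
    IsIso (pullPushAdjModEt hf).counit :=
  have := full_pushModEt (hf := hf) H hi
  have := faithful_pushModEt (hf := hf) H
  inferInstance

end Groth.Agent.EtClImm
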