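import Groth.Agent.EtClImm.Space
import Groth.Prelude.Def_AlgSp4
import Mathlib.CategoryTheory.Adjunction.FullyFaithful

/-!
# Direct images of sheaves along integral universally injective morphisms
-/

set_option autoImplicit false
set_option backward.isDefEq.respectTransparency false
set_option backward.isDefEq.respectTransparency.types false

universe v' u' u

open CategoryTheory CategoryTheory.Limits AlgebraicGeometry Opposite AlgSp

namespace Groth.Agent.EtClImm

variable {S : Scheme.{u}} {Z X : Sp S} {f : Z ⟶ X}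

theorem repWith_universallyInjective (hf : Representable f) (hu : IsUnivInjectiveMor f) :
    RepWith @UniversallyInjective f := by
  refine ⟨hf, fun T W g fst snd sq => ?_⟩
  refine ⟨fun T' W' i₁ i₂ g' sq' => ?_⟩
  let U' : Over S := Over.mk (i₂ ≫ T.hom)
  let W'' : Over S := Over.mk (i₁ ≫ W.hom)
  let a : W'' ⟶ W := Over.homMk i₁
  let b : U' ⟶ T := Over.homMk i₂
  let s : W'' ⟶ U' := Over.homMk g' (by
    show g' ≫ i₂ ≫ T.hom = i₁ ≫ W.hom
    rw [← Over.w snd]
    exact (Category.assoc _ _ _).symm.trans ((congrArg (· ≫ T.hom) sq'.w).trans (Category.assoc _ _ _)))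
  have sqO : IsPullback a s snd b :=
    IsPullback.of_map (CategoryTheory.Over.forget S) (Over.OverMorphism.ext sq'.w.symm) sq'.flip
  have sq2 := (sqO.map (yon S)).paste_horiz sq
  have hinj := hu (IsAlgSpace.yon_obj U') _ _ _ sq2
  intro x y hxy
  refine (Points.schemeEquiv W'').injective (hinj ?_)
  show Points.map ((yon S).map s) (Points.ofPt (𝟙 _) x) = Points.map ((yon S).map s) (Points.ofPt (𝟙 _) y)
  rw [Points.map_ofPt, Points.map_ofPt, Category.id_comp, ← Category.comp_id ((yon S).map s),
    AlgSpLib.ofPt_comp, AlgSpLib.ofPt_comp]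
  exact congrArg _ hxy

/-- The morphism has the properties used for direct images. -/
structure Hyp (f : Z ⟶ X) : Prop where
  space : IsAlgSpace X
  integral : RepWith @IsIntegralHom f
  univInj : RepWith @UniversallyInjective f

theorem Hyp.of_isClosedImmersion (hX : IsAlgSpace X) (hi : RepWith @IsClosedImmersion f) : Hyp f :=
  ⟨hX, ⟨hi.1, fun _ _ g fst snd sq => by
      have : IsClosedImmersion snd.left := hi.2 g fst snd sq
      exact (inferInstance : IsIntegralHom snd.left)⟩,
    ⟨hi.1, fun _ _ g fst snd sq => by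
      have : IsClosedImmersion snd.left := hi.2 g fst snd sq
      exact (inferInstance : UniversallyInjective snd.left)⟩⟩

variable {hf : Representable f}

theorem Hyp.isCoverDense (H : Hyp f) : (EtOver.bc hf).IsCoverDense (etTop Z) :=
  isCoverDense_bc hf H.space H.integral H.univInj

theorem Hyp.isLocallyFull (H : Hyp f) : (EtOver.bc hf).IsLocallyFull (etTop Z) :=
  isLocallyFull_bc hf H.integral H.univInj

theorem full_pushEt (H : Hyp f) (A : Type u') [Category.{v'} A] : (pushEt hf A).Full :=
  have := H.isCoverDense (hf := hf)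
  have := H.isLocallyFull (hf := hf)
  inferInstance

theorem faithful_pushEt (H : Hyp f) (A : Type u') [Category.{v'} A] : (pushEt hf A).Faithful :=
  have := H.isCoverDense (hf := hf)
  have := H.isLocallyFull (hf := hf)
  inferInstance

theorem isIso_counit (H : Hyp f) (A : Type u') [Category.{v'} A]
    [((EtOver.bc hf).sheafPushforwardContinuous A (etTop X) (etTop Z)).IsRightAdjoint] :
    IsIso (pullPushAdjEt hf A).counit :=
  have := full_pushEt (hf := hf) H A
  have := faithful_pushEt (hf := hf) H A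
  inferInstance

theorem exists_of_mem_etTop {E : EtOver X} {R : Sieve E} (h : R ∈ etTop X E) (x : E.obj.left.left) :
    ∃ (E' : EtOver X) (g : E' ⟶ E), R g ∧ x ∈ Set.range g.hom.left.left.base := by
  obtain ⟨P, hP, hle⟩ := (Precoverage.mem_toGrothendieck_iff_of_isStableUnderComposition (J := etPre X)).1 h
  obtain ⟨ι, Y, g, rfl⟩ := P.exists_eq_ofArrows
  obtain ⟨i, hi⟩ := (ofArrows_mem_etPre_iff Y g).1 hP x
  exact ⟨_, g i, hle _ _ ⟨i⟩, hi⟩

/-- The object of the small étale site misses the image of `f`. -/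
def Misses (f : Z ⟶ X) (E : EtOver X) : Prop :=
  Disjoint (Set.range (Points.map E.obj.hom)) (Set.range (Points.map f))

theorem isEmpty_bcObj (hf : Representable f) {E : EtOver X} (h : Misses f E) :
    IsEmpty (EtOver.bcObj hf E).obj.left.left := ⟨fun z => h.le_bot
  ⟨⟨Points.map ((yon S).map (EtOver.bcπ hf E)) (Points.ofPt (𝟙 _) z), by
      simp only [Points.map_ofPt, Category.id_comp]
      rw [(EtOver.isPullback_bcObj hf E).w]⟩,
    Points.ofPt (EtOver.bcObj hf E).obj.hom z, Points.map_ofPt _ _ _⟩⟩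

/-- The sieve of arrows with source missing the image of `f`. -/
def missSieve (f : Z ⟶ X) (E : EtOver X) : Sieve E where
  arrows E' _ := Misses f E'
  downward_closed := fun {E' E''} _ h g => by
    refine h.mono_left ?_
    rintro _ ⟨p, rfl⟩
    exact ⟨Points.map ((yon S).map g.hom.left) p, by rw [← EtOver.w g, Points.map_comp]⟩

theorem sup_missSieve_mem (H : Hyp f) {E : EtOver X} (R : Sieve E)
    (hR : R.functorPushforward (EtOver.bc hf) ∈ etTop Z (EtOver.bcObj hf E)) :
    R ⊔ missSieve f E ∈ etTop X E := by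
  refine mem_etTop_of_surjective _ fun x => ?_
  by_cases hx : x ∈ Set.range (EtOver.bcπ hf E).left.base
  · obtain ⟨z, rfl⟩ := hx
    obtain ⟨W, k, ⟨E', g, a, hg, rfl⟩, w, hw⟩ := exists_of_mem_etTop hR z
    refine ⟨E', g, Or.inl hg, (EtOver.bcπ hf E').left.base (a.hom.left.left.base w), ?_⟩
    rw [← hw]
    exact (congrArg (fun h => h.left.base (a.hom.left.left.base w)) (EtOver.bcMap_snd hf g)).symm
  · have : IsIntegralHom (EtOver.bcπ hf E).left := H.integral.property _ _ _ (hf.isPullback E.obj.hom)
    let O : E.obj.left.left.Opens :=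
      ⟨(Set.range (EtOver.bcπ hf E).left.base)ᶜ,
        ((EtOver.bcπ hf E).left.isClosedMap.isClosed_range).isOpen_compl⟩
    refine ⟨etOf E O.ι, etTo E O.ι, Or.inr (Set.disjoint_left.2 ?_), ⟨x, hx⟩, rfl⟩
    rintro _ ⟨p, rfl⟩ ⟨y, hy⟩
    obtain ⟨v, rfl⟩ := (Points.schemeEquiv _).surjective p
    obtain ⟨z, -, hz⟩ := AlgSpPts.exists_lift (EtOver.isPullback_bcObj hf E) (x := y)
      (t := O.ι.base v) (hy.trans (by
        show Points.map (etOf E O.ι).obj.hom (Points.ofPt (𝟙 _) v) = _
        rw [Points.map_ofPt, Category.id_comp]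
        exact AlgSpLib.ofPt_comp _ _ _))
    exact v.2 ⟨z, hz⟩

/-- Presheaves of sets vanishing off the image are sheaves for the induced topology. -/
theorem isSheaf_induced (H : Hyp f) (P : (EtOver X)ᵒᵖ ⥤ Type (u + 1)) (hP : Presieve.IsSheaf (etTop X) P)
    (h0 : ∀ E, Misses f E → Nonempty (Unique (P.obj (op E)))) [(EtOver.bc hf).IsCoverDense (etTop Z)]
    [(EtOver.bc hf).IsLocallyFull (etTop Z)] [(EtOver.bc hf).IsLocallyFaithful (etTop Z)] :
    Presieve.IsSheaf ((EtOver.bc hf).inducedTopology (etTop Z)) P := by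
  intro E R hR
  have hR' := sup_missSieve_mem (hf := hf) H R
    ((Functor.mem_inducedTopology_iff_of_isCoverDense _ _ _).1 hR)
  have hsep : ∀ (E' : EtOver X) (g : E' ⟶ E) (a b : P.obj (op E')), (missSieve f E) g → a = b := by
    intro E' g a b hg
    obtain ⟨hu⟩ := h0 E' hg
    exact Subsingleton.elim a b
  intro x hx
  classical
  let x' : Presieve.FamilyOfElements P (R ⊔ missSieve f E).arrows := fun E' g hg =>
    if h : R g then x g h else (h0 E' (hg.resolve_left h)).some.default
  have hx' : x'.SieveCompatible := by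
    intro E' E'' g j hg
    by_cases h : R g
    · have hjg : R (j ≫ g) := R.downward_closed h j
      simp only [x', dif_pos h, dif_pos hjg]
      exact (Presieve.compatible_iff_sieveCompatible x).1 hx g j h
    · exact hsep _ (j ≫ g) _ _ ((missSieve f E).downward_closed (hg.resolve_left h) j)
  obtain ⟨t, ht, huniq⟩ := hP _ hR' x' ((Presieve.compatible_iff_sieveCompatible x').2 hx')
  refine ⟨t, fun E' g hg => ?_, fun s hs => huniq s fun E' g hg => ?_⟩
  · rw [ht g (Or.inl hg)]
    exact dif_pos hg
  · by_cases h : R g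
    · simp only [x', dif_pos h]
      exact hs g h
    · exact hsep _ g _ _ (hg.resolve_left h)

theorem misses_terminal (F : EtSh Z (Type (u + 1))) {E : EtOver X} (hE : Misses f E) :
    Nonempty (IsTerminal (F.obj.obj (op (EtOver.bcObj hf E)))) := by
  have := isEmpty_bcObj hf hE
  exact ⟨Sheaf.isTerminalOfBotCover F _ (mem_etTop_of_surjective _ fun z => isEmptyElim z)⟩

theorem essImage_pushEt_types (H : Hyp f) (G : EtSh X (Type (u + 1))) :
    (pushEt hf (Type (u + 1))).essImage G ↔ ∀ E : EtOver X, Misses f E → Nonempty (Unique (G.obj.obj (op E))) := by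
  have := H.isCoverDense (hf := hf)
  have := H.isLocallyFull (hf := hf)
  have := isLocallyFaithful_bc hf
  constructor
  · rintro ⟨F, ⟨e⟩⟩ E hE
    obtain ⟨t⟩ := misses_terminal (hf := hf) F hE
    exact ⟨Types.isTerminalEquivUnique _ (t.ofIso (((sheafToPresheaf _ _).mapIso e).app (op E)))⟩
  · intro h0
    let J' := (EtOver.bc hf).inducedTopology (etTop Z)
    let G' : Sheaf J' (Type (u + 1)) := ⟨G.obj, (isSheaf_iff_isSheaf_of_type _ _).2
      (isSheaf_induced (hf := hf) H G.obj ((isSheaf_iff_isSheaf_of_type _ _).1 G.property) h0)⟩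
    let P := (EtOver.bc hf).sheafPushforwardContinuous (Type (u + 1)) J' (etTop Z)
    let e := P.objObjPreimageIso G'
    exact ⟨P.objPreimage G',
      ⟨(fullyFaithfulSheafToPresheaf _ _).preimageIso ((sheafToPresheaf J' _).mapIso e)⟩⟩

theorem essImage_pushEt_ab (H : Hyp f) (G : AbEt X) :
    (pushEt hf AddCommGrpCat.{u + 1}).essImage G ↔
      ∀ E : EtOver X, Misses f E → Subsingleton ↥(G.obj.obj (op E)) := by
  have := H.isCoverDense (hf := hf)
  have := H.isLocallyFull (hf := hf)
  have := isLocallyFaithful_bc hf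
  constructor
  · rintro ⟨F, ⟨e⟩⟩ E hE
    have := isEmpty_bcObj hf hE
    let t : IsTerminal (F.obj.obj (op (EtOver.bcObj hf E))) :=
      Sheaf.isTerminalOfBotCover F _ (mem_etTop_of_surjective _ fun z => isEmptyElim z)
    exact AddCommGrpCat.subsingleton_of_isZero
      (IsZero.of_iso (IsZero.of_iso (isZero_zero _) (t.uniqueUpToIso (isZero_zero _).isTerminal))
        (((sheafToPresheaf _ _).mapIso e).app (op E)).symm)
  · intro h0
    let J' := (EtOver.bc hf).inducedTopology (etTop Z)
    let G' : Sheaf J' AddCommGrpCat.{u + 1} := ⟨G.obj, (Presheaf.isSheaf_iff_isSheaf_forget _ _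
      (CategoryTheory.forget AddCommGrpCat.{u + 1})).2 ((isSheaf_iff_isSheaf_of_type _ _).2
      (isSheaf_induced (hf := hf) H _ ((isSheaf_iff_isSheaf_of_type _ _).1
        ((Presheaf.isSheaf_iff_isSheaf_forget _ _ (CategoryTheory.forget AddCommGrpCat.{u + 1})).1 G.property))
        fun E hE => @unique_iff_subsingleton_and_nonempty _ |>.2 ⟨h0 E hE, ⟨(0 : G.obj.obj (op E))⟩⟩))⟩
    let P := (EtOver.bc hf).sheafPushforwardContinuous AddCommGrpCat.{u + 1} J' (etTop Z)
    let e := P.objObjPreimageIso G'
    exact ⟨P.objPreimage G',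
      ⟨(fullyFaithfulSheafToPresheaf _ _).preimageIso ((sheafToPresheaf J' _).mapIso e)⟩⟩

end Groth.Agent.EtClImm
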