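import Groth.Agent.EtFound.LiftEtale
import Groth.Agent.EtTopInvFull.Main
import Mathlib.AlgebraicGeometry.Morphisms.Integral

/-!
# Étale schemes along integral universally injective morphisms of schemes
-/

set_option autoImplicit false
set_option backward.isDefEq.respectTransparency false
set_option backward.isDefEq.respectTransparency.types false

universe u

open CategoryTheory CategoryTheory.Limits AlgebraicGeometry

namespace Groth.Agent.EtClImm

variable {Z T : Scheme.{u}} (c : Z ⟶ T) [IsIntegralHom c] [UniversallyInjective c]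

omit [UniversallyInjective c] in
theorem isIntegralHom_toImage : IsIntegralHom c.toImage := by
  have : IsIntegralHom (c.toImage ≫ c.imageι) := by rw [c.toImage_imageι]; infer_instance
  exact IsIntegralHom.of_comp c.toImage c.imageι

omit [IsIntegralHom c] in
theorem universallyInjective_toImage : UniversallyInjective c.toImage := by
  have : UniversallyInjective (c.toImage ≫ c.imageι) := by rw [c.toImage_imageι]; infer_instance
  let gr : Z ⟶ pullback (c.toImage ≫ c.imageι) c.imageι := pullback.lift (𝟙 Z) c.toImage (Category.id_comp _)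
  have : Mono gr := mono_of_mono_fac (pullback.lift_fst (𝟙 Z) c.toImage (Category.id_comp _))
  have : UniversallyInjective (pullback.snd (c.toImage ≫ c.imageι) c.imageι) :=
    MorphismProperty.pullback_snd (P := @UniversallyInjective) _ _ inferInstance
  rw [← pullback.lift_snd (𝟙 Z) c.toImage (Category.id_comp (c.toImage ≫ c.imageι))]
  exact MorphismProperty.comp_mem @UniversallyInjective gr _ inferInstance inferInstance

omit [UniversallyInjective c] in
theorem surjective_toImage : Surjective c.toImage := by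
  have := isIntegralHom_toImage c
  refine ⟨Set.range_eq_univ.1 ?_⟩
  rw [← c.toImage.isClosedMap.isClosed_range.closure_eq]
  exact (Scheme.Hom.denseRange c.toImage).closure_range

/-- An étale scheme over the source is covered by base changes of étale schemes over the target. -/
theorem exists_etale_bc {U : Scheme.{u}} (f : U ⟶ Z) [AlgebraicGeometry.Etale f] (u : U) :
    ∃ (V : Scheme.{u}) (v : V ⟶ T) (_ : AlgebraicGeometry.Etale v) (h : pullback v c ⟶ U),
      h ≫ f = pullback.snd v c ∧ u ∈ Set.range h.base := by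
  have := isIntegralHom_toImage c
  have := universallyInjective_toImage c
  have := surjective_toImage c
  let q : Z ⟶ c.image := c.toImage
  have hq : q ≫ c.imageι = c := c.toImage_imageι
  have : IsIntegralHom q := isIntegralHom_toImage c
  have : UniversallyInjective q := universallyInjective_toImage c
  have : Surjective q := surjective_toImage c
  have := EtTopInvFull.bc_essSurj q
  let U' : Z.Etale := Scheme.Etale.mk f
  let U₁ : c.image.Etale := (EtCoh.bc q).objPreimage U'
  let e : (EtCoh.bc q).obj U₁ ≅ U' := (EtCoh.bc q).objObjPreimageIso U'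
  let π₁ : U₁.left ⟶ c.image := U₁.hom
  let el : pullback π₁ q ⟶ U := e.hom.left
  have : IsIso el := inferInstanceAs (IsIso e.hom.left)
  have : AlgebraicGeometry.Etale π₁ := U₁.prop
  obtain ⟨p, hp⟩ : ∃ p, el.base p = u := el.surjective u
  obtain ⟨V, h, hh, -, v', hv'⟩ := EtFound.exists_etale_lift c.imageι π₁ ((pullback.fst π₁ q).base p)
  have hV : AlgebraicGeometry.Etale V.hom := V.prop
  let a : pullback V.hom c ⟶ pullback V.hom c.imageι :=
    pullback.lift (pullback.fst _ _) (pullback.snd _ _ ≫ q) (by rw [Category.assoc, hq, pullback.condition])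
  let b : pullback V.hom c ⟶ pullback π₁ q :=
    pullback.lift (a ≫ h) (pullback.snd _ _)
      (by rw [Category.assoc, hh, pullback.lift_snd])
  refine ⟨V.left, V.hom, hV, b ≫ el, ?_, ?_⟩
  · have hw : el ≫ f = pullback.snd π₁ q := MorphismProperty.Over.w e.hom
    rw [Category.assoc, hw]
    exact pullback.lift_snd _ _ _
  · obtain ⟨z, hz⟩ := q.surjective ((pullback.snd V.hom c.imageι).base v')
    have e1 : V.hom.base ((pullback.fst V.hom c.imageι).base v') = c.base z := by
      rw [← Scheme.Hom.comp_apply, pullback.condition, Scheme.Hom.comp_apply, ← hz]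
      exact (Scheme.Hom.comp_apply _ _ _).symm.trans (congrArg (fun g => g.base z) hq)
    obtain ⟨w, hw1, hw2⟩ := Scheme.Pullback.exists_preimage_pullback _ z e1
    have ha : a.base w = v' := by
      apply (pullback.fst V.hom c.imageι).isEmbedding.injective
      rw [← hw1, ← Scheme.Hom.comp_apply, pullback.lift_fst]
    have hb : b.base w = p := by
      have : UniversallyInjective (pullback.fst π₁ q) :=
        MorphismProperty.pullback_fst (P := @UniversallyInjective) _ _ inferInstance
      apply (pullback.fst π₁ q).injective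
      rw [← Scheme.Hom.comp_apply, pullback.lift_fst, Scheme.Hom.comp_apply, ha, hv']
    exact ⟨w, by rw [Scheme.Hom.comp_apply, hb, hp]⟩

omit [IsIntegralHom c] [UniversallyInjective c] in
/-- Two sections of an étale morphism agreeing after pullback to `Z` agree on a neighbourhood of its image. -/
theorem exists_open_eq {R : Scheme.{u}} (π : R ⟶ T) [AlgebraicGeometry.Etale π] (σ₁ σ₂ : T ⟶ R)
    (h₁ : σ₁ ≫ π = 𝟙 T) (h₂ : σ₂ ≫ π = 𝟙 T) (hc : c ≫ σ₁ = c ≫ σ₂) :
    ∃ W : T.Opens, Set.range c.base ⊆ W ∧ W.ι ≫ σ₁ = W.ι ≫ σ₂ := by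
  have : IsOpenImmersion σ₂ := by
    have : AlgebraicGeometry.Etale (σ₂ ≫ π) := by rw [h₂]; infer_instance
    have : AlgebraicGeometry.Etale σ₂ := AlgebraicGeometry.Etale.of_comp σ₂ π
    have : Mono σ₂ := mono_of_mono_fac h₂
    exact IsOpenImmersion.of_flat_of_mono σ₂
  refine ⟨σ₁ ⁻¹ᵁ σ₂.opensRange, ?_, ?_⟩
  · rintro _ ⟨z, rfl⟩
    exact ⟨c.base z, by rw [← Scheme.Hom.comp_apply, ← hc]; rfl⟩
  · have hr : Set.range ((σ₁ ⁻¹ᵁ σ₂.opensRange).ι ≫ σ₁).base ⊆ Set.range σ₂.base := by
      rintro _ ⟨x, rfl⟩
      exact x.2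
    let h := IsOpenImmersion.lift σ₂ ((σ₁ ⁻¹ᵁ σ₂.opensRange).ι ≫ σ₁) hr
    have hh : h ≫ σ₂ = (σ₁ ⁻¹ᵁ σ₂.opensRange).ι ≫ σ₁ := IsOpenImmersion.lift_fac _ _ _
    have hπ := congrArg (· ≫ π) hh
    simp only [Category.assoc, h₁, h₂, Category.comp_id] at hπ
    rw [← hh, hπ]

/-- A lift of `c` to an étale `T`-scheme extends to an étale neighbourhood of the image. -/
theorem exists_open_extend {R : Scheme.{u}} (π : R ⟶ T) [AlgebraicGeometry.Etale π] (k : Z ⟶ R)
    (hk : k ≫ π = c) :
    ∃ W : R.Opens, Set.range k.base ⊆ W ∧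
      pullback.fst (W.ι ≫ π) c ≫ W.ι = pullback.snd (W.ι ≫ π) c ≫ k := by
  let s : Z ⟶ pullback π c := pullback.lift k (𝟙 Z) (by rw [hk, Category.id_comp])
  have hs : s ≫ pullback.snd π c = 𝟙 Z := pullback.lift_snd _ _ _
  have hsk : s ≫ pullback.fst π c = k := pullback.lift_fst _ _ _
  have : AlgebraicGeometry.Etale (pullback.snd π c) := MorphismProperty.pullback_snd _ _ inferInstance
  have : IsOpenImmersion s := by
    have : AlgebraicGeometry.Etale (s ≫ pullback.snd π c) := by rw [hs]; infer_instance
    have : AlgebraicGeometry.Etale s := AlgebraicGeometry.Etale.of_comp s (pullback.snd π c)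
    have : Mono s := mono_of_mono_fac hs
    exact IsOpenImmersion.of_flat_of_mono s
  have : UniversallyInjective (pullback.fst π c) :=
    MorphismProperty.pullback_fst (P := @UniversallyInjective) _ _ inferInstance
  have : IsIntegralHom (pullback.fst π c) := MorphismProperty.pullback_fst _ _ inferInstance
  let W : R.Opens := ⟨((pullback.fst π c).base '' (Set.range s.base)ᶜ)ᶜ,
    ((pullback.fst π c).isClosedMap _ s.isOpenEmbedding.isOpen_range.isClosed_compl).isOpen_compl⟩
  have hW : ∀ x, (pullback.fst π c).base x ∈ W ↔ x ∈ Set.range s.base := by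
    intro x
    refine ⟨fun hx => by_contra fun hn => hx ⟨x, hn, rfl⟩, fun hx => ?_⟩
    rintro ⟨y, hy, hxy⟩
    exact hy ((pullback.fst π c).injective hxy ▸ hx)
  refine ⟨W, ?_, ?_⟩
  · rintro _ ⟨z, rfl⟩
    rw [← hsk, Scheme.Hom.comp_apply]
    exact (hW _).2 ⟨z, rfl⟩
  · let m : pullback (W.ι ≫ π) c ⟶ pullback π c :=
      pullback.lift (pullback.fst _ _ ≫ W.ι) (pullback.snd _ _) (by rw [Category.assoc, pullback.condition])
    have hm : m ≫ pullback.fst π c = pullback.fst _ _ ≫ W.ι := pullback.lift_fst _ _ _
    have hr : Set.range m.base ⊆ Set.range s.base := by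
      rintro _ ⟨x, rfl⟩
      refine (hW _).1 ?_
      rw [← Scheme.Hom.comp_apply, hm, Scheme.Hom.comp_apply]
      exact ((pullback.fst (W.ι ≫ π) c).base x).2
    let h := IsOpenImmersion.lift s m hr
    have hh : h ≫ s = m := IsOpenImmersion.lift_fac _ _ _
    have h2 : h = pullback.snd (W.ι ≫ π) c := by
      rw [← Category.comp_id h, ← hs, ← Category.assoc, hh]
      exact pullback.lift_snd _ _ _
    rw [← hm, ← hh, h2, Category.assoc, hsk]

end Groth.Agent.EtClImm
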