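import Groth.Agent.EtClImm.Scheme
import Groth.Agent.AlgSpLib.EtTopInv
import Groth.Agent.AlgSpPts.Univ
import Mathlib.CategoryTheory.Sites.DenseSubsite.InducedTopology

/-!
# Base change of small étale sites along integral universally injective morphisms
-/

set_option autoImplicit false
set_option backward.isDefEq.respectTransparency false
set_option backward.isDefEq.respectTransparency.types false

universe u

open CategoryTheory CategoryTheory.Limits AlgebraicGeometry Opposite AlgSp

namespace Groth.Agent.EtClImm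

variable {S : Scheme.{u}} {Z X : Sp S} {f : Z ⟶ X}

/-- The object of the small étale site given by an étale scheme over one of its objects. -/
noncomputable def etOf (E : EtOver X) {V : Scheme.{u}} (v : V ⟶ E.obj.left.left) [Etale v] : EtOver X :=
  EtOver.mk ((yon S).map (Over.homMk v : Over.mk (v ≫ E.obj.left.hom) ⟶ E.obj.left) ≫ E.obj.hom)
    ((repWith_isMultiplicative (S := S) @Etale).comp_mem _ _ ((repWith_yon_map_iff _ _).2 ‹Etale v›) E.property)

/-- Its structure morphism. -/
noncomputable def etTo (E : EtOver X) {V : Scheme.{u}} (v : V ⟶ E.obj.left.left) [Etale v] : etOf E v ⟶ E :=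
  EtOver.homMk (Over.homMk v : Over.mk (v ≫ E.obj.left.hom) ⟶ E.obj.left) rfl

theorem etTo_left (E : EtOver X) {V : Scheme.{u}} (v : V ⟶ E.obj.left.left) [Etale v] :
    (etTo E v).hom.left.left = v := rfl

variable (hf : Representable f) (h1 : RepWith @IsIntegralHom f) (h2 : RepWith @UniversallyInjective f)

theorem isPullback_bc_etTo (E : EtOver X) {V : Scheme.{u}} (v : V ⟶ E.obj.left.left) [Etale v] :
    IsPullback (EtOver.bcπ hf (etOf E v)).left (EtOver.bcMap hf (etTo E v)).hom.left.left v
      (EtOver.bcπ hf E).left :=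
  (EtOver.isPullback_bcMap_left hf (etTo E v)).flip

theorem exists_point_bc_etTo (E : EtOver X) {V : Scheme.{u}} (v : V ⟶ E.obj.left.left) [Etale v]
    (z : (EtOver.bcObj hf E).obj.left.left) (y : V) (h : v.base y = (EtOver.bcπ hf E).left.base z) :
    ∃ w, (EtOver.bcMap hf (etTo E v)).hom.left.left.base w = z := by
  obtain ⟨q, -, hq⟩ := Scheme.Pullback.exists_preimage_pullback y z h
  refine ⟨(isPullback_bc_etTo hf E v).isoPullback.inv.base q, ?_⟩
  rw [← Scheme.Hom.comp_apply, IsPullback.isoPullback_inv_snd]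
  exact hq

theorem mem_etTop_of_surjective {E : EtOver X} (R : Sieve E)
    (h : ∀ x : E.obj.left.left, ∃ (E' : EtOver X) (g : E' ⟶ E), R g ∧ x ∈ Set.range g.hom.left.left.base) :
    R ∈ etTop X E := by
  choose E' g hg hx using h
  refine (etTop X).superset_covering ?_ (ofArrows_mem_etTop E' g fun x => ⟨x, hx x⟩)
  exact Sieve.generate_le_iff _ _ |>.2 fun _ _ ⟨i⟩ => hg i

/-- Every étale scheme over the source is covered by base changes. -/
theorem exists_bc_hom (hX : IsAlgSpace X) (h1 : RepWith @IsIntegralHom f) (h2 : RepWith @UniversallyInjective f)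
    (E' : EtOver Z) (w : E'.obj.left.left) :
    ∃ (E : EtOver X) (ψ : EtOver.bcObj hf E ⟶ E'), w ∈ Set.range ψ.hom.left.left.base := by
  obtain ⟨T₀, p, hp, hps⟩ := hX.atlas
  let E₀ : EtOver X := EtOver.mk p hp
  let c := EtOver.bcπ hf E₀
  have : IsIntegralHom c.left := h1.property _ _ _ (hf.isPullback E₀.obj.hom)
  have : UniversallyInjective c.left := h2.property _ _ _ (hf.isPullback E₀.obj.hom)
  let hr := E'.property.rep
  let hB := (EtOver.bcObj hf E₀).obj.hom
  let R := hr.pullback hB
  have hπ : Etale (hr.snd hB).left := E'.property.property _ _ _ (hr.isPullback hB)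
  obtain ⟨t, ht⟩ := AlgSpLib.surjective_ofPt hps (Points.map f (Points.ofPt E'.obj.hom w))
  obtain ⟨z, hz, -⟩ := AlgSpPts.exists_lift (EtOver.isPullback_bcObj hf E₀) ht.symm
  obtain ⟨q, hq, -⟩ := AlgSpPts.exists_lift (hr.isPullback' hB)
    ((Points.ofPt_eq_map_ofScheme E'.obj.hom w).symm.trans hz.symm)
  have hqw : (hr.fst' hB).left.base q = w := (Points.schemeEquiv _).injective (Eq.trans (by
    change Points.ofPt (𝟙 _) ((hr.fst' hB).left.base q) = _
    rw [← AlgSpLib.ofPt_comp, Category.comp_id]) hq)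
  obtain ⟨V, v, hv, h, hh, hu⟩ := exists_etale_bc c.left (hr.snd hB).left q
  let E := etOf E₀ v
  let d := (isPullback_bc_etTo hf E₀ v).isoPullback
  have hm : (d.hom ≫ h) ≫ (hr.snd hB).left = (EtOver.bcMap hf (etTo E₀ v)).hom.left.left := by
    rw [Category.assoc, hh]; exact IsPullback.isoPullback_hom_snd _
  let m : (EtOver.bcObj hf E).obj.left ⟶ R := Over.homMk (d.hom ≫ h) (by
    rw [← Over.w (hr.snd hB), ← Category.assoc, hm, Over.w])
  have hm' : m ≫ hr.snd hB = (EtOver.bcMap hf (etTo E₀ v)).hom.left := Over.OverMorphism.ext hm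
  refine ⟨E, EtOver.homMk (m ≫ hr.fst' hB) ?_, ?_⟩
  · rw [Functor.map_comp, Category.assoc, (hr.isPullback' hB).w, ← Category.assoc, ← Functor.map_comp, hm']
    exact EtOver.w _
  · obtain ⟨y, hy⟩ := hu
    refine ⟨d.inv.base y, ?_⟩
    show ((d.hom ≫ h) ≫ (hr.fst' hB).left).base (d.inv.base y) = w
    rw [← Scheme.Hom.comp_apply, Category.assoc, Iso.inv_hom_id_assoc, Scheme.Hom.comp_apply, hy, hqw]

theorem isCoverDense_bc (hX : IsAlgSpace X) (h1 : RepWith @IsIntegralHom f)
    (h2 : RepWith @UniversallyInjective f) : (EtOver.bc hf).IsCoverDense (etTop Z) where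
  is_cover E' := mem_etTop_of_surjective _ fun w => by
    obtain ⟨E, ψ, hw⟩ := exists_bc_hom hf hX h1 h2 E' w
    exact ⟨_, ψ, Presieve.in_coverByImage (EtOver.bc hf) ψ, hw⟩

theorem isLocallyFaithful_bc : (EtOver.bc hf).IsLocallyFaithful (etTop Z) where
  functorPushforward_equalizer_mem {E E'} g g' hgg := mem_etTop_of_surjective _ fun z => by
    let c : (EtOver.bcObj hf E).obj.left ⟶ E.obj.left := EtOver.bcπ hf E
    let hr := E'.property.rep
    have : Etale (hr.snd E.obj.hom).left := E'.property.property _ _ _ (hr.isPullback E.obj.hom)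
    let σ : (E ⟶ E') → (E.obj.left ⟶ hr.pullback E.obj.hom) := fun g =>
      hr.lift' g.hom.left (𝟙 _) (by rw [EtOver.w g, CategoryTheory.Functor.map_id, Category.id_comp])
    have hs : ∀ g, (σ g).left ≫ (hr.snd E.obj.hom).left = 𝟙 _ := fun g => by
      rw [← Over.comp_left, hr.lift'_snd]; rfl
    have hb : (EtOver.bcMap hf g).hom.left = (EtOver.bcMap hf g').hom.left := congrArg (fun q => q.hom.left) hgg
    have hc : c ≫ g.hom.left = c ≫ g'.hom.left := by
      rw [← EtOver.bcMap_snd hf g, ← EtOver.bcMap_snd hf g', hb]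
    have e : c ≫ σ g = c ≫ σ g' := hr.hom_ext'
      (by rw [Category.assoc, Category.assoc, hr.lift'_fst, hr.lift'_fst, hc])
      (by rw [Category.assoc, Category.assoc, hr.lift'_snd, hr.lift'_snd])
    obtain ⟨W, hW, hWe⟩ := exists_open_eq c.left (hr.snd E.obj.hom).left (σ g).left (σ g').left (hs g) (hs g')
      (by rw [← Over.comp_left, e, Over.comp_left])
    have : etTo E W.ι ≫ g = etTo E W.ι ≫ g' := EtOver.hom_ext _ _ (by
      change _ ≫ g.hom.left = _ ≫ g'.hom.left
      have h3 : (etTo E W.ι).hom.left ≫ σ g = (etTo E W.ι).hom.left ≫ σ g' := Over.OverMorphism.ext hWe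
      have h4 := congrArg (· ≫ hr.fst' E.obj.hom) h3
      simpa only [Category.assoc, σ, hr.lift'_fst] using h4)
    exact ⟨_, (EtOver.bc hf).map (etTo E W.ι), ⟨_, etTo E W.ι, 𝟙 _, this, (Category.id_comp _).symm⟩,
      exists_point_bc_etTo hf E W.ι z ⟨_, hW ⟨z, rfl⟩⟩ rfl⟩

theorem isLocallyFull_bc (h1 : RepWith @IsIntegralHom f) (h2 : RepWith @UniversallyInjective f) :
    (EtOver.bc hf).IsLocallyFull (etTop Z) where
  functorPushforward_imageSieve_mem {E E'} ψ := mem_etTop_of_surjective _ fun z => by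
    let c : (EtOver.bcObj hf E).obj.left ⟶ E.obj.left := EtOver.bcπ hf E
    have : IsIntegralHom c.left := h1.property _ _ _ (hf.isPullback E.obj.hom)
    have : UniversallyInjective c.left := h2.property _ _ _ (hf.isPullback E.obj.hom)
    let hr := E'.property.rep
    let π := hr.snd E.obj.hom
    have : Etale π.left := E'.property.property _ _ _ (hr.isPullback E.obj.hom)
    have hψ : (yon S).map ψ.hom.left ≫ hf.fst E'.obj.hom = hf.fst E.obj.hom := EtOver.w ψ
    let k : (EtOver.bcObj hf E).obj.left ⟶ hr.pullback E.obj.hom := hr.lift' (ψ.hom.left ≫ hf.snd E'.obj.hom) c (by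
      rw [Functor.map_comp, Category.assoc, ← hf.w E'.obj.hom]
      exact ((Category.assoc _ _ _).symm.trans (congrArg (· ≫ f) hψ)).trans (hf.w E.obj.hom))
    have hk : k ≫ π = c := hr.lift'_snd _ _ _
    obtain ⟨W, hW, hWe⟩ := exists_open_extend c.left π.left k.left (by rw [← Over.comp_left, hk])
    let v := W.ι ≫ π.left
    let E₁ := etOf E v
    let a : E₁.obj.left ⟶ hr.pullback E.obj.hom := Over.homMk W.ι (by
      show W.ι ≫ _ = (W.ι ≫ π.left) ≫ _
      rw [Category.assoc, Over.w π])
    have haπ : a ≫ π = (etTo E v).hom.left := Over.OverMorphism.ext rfl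
    let l : E₁ ⟶ E' := EtOver.homMk (a ≫ hr.fst' E.obj.hom) (by
      rw [Functor.map_comp, Category.assoc, (hr.isPullback' E.obj.hom).w, ← Category.assoc, ← Functor.map_comp, haπ]
      exact EtOver.w _)
    have key : EtOver.bcπ hf E₁ ≫ a = (EtOver.bcMap hf (etTo E v)).hom.left ≫ k := Over.OverMorphism.ext (by
      let d := (isPullback_bc_etTo hf E v).isoPullback
      have e1 : d.hom ≫ pullback.fst v c.left = (EtOver.bcπ hf E₁).left := IsPullback.isoPullback_hom_fst _
      have e2 : d.hom ≫ pullback.snd v c.left = (EtOver.bcMap hf (etTo E v)).hom.left.left :=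
        IsPullback.isoPullback_hom_snd _
      rw [Over.comp_left, Over.comp_left, ← e1, ← e2, Category.assoc, Category.assoc]
      exact congrArg (d.hom ≫ ·) hWe)
    have hl : (EtOver.bc hf).map l = (EtOver.bc hf).map (etTo E v) ≫ ψ := EtOver.hom_ext _ _ (hf.hom_ext
      ((EtOver.map_bcMap_fst hf l).trans (by
        refine Eq.trans ?_ (EtOver.w (EtOver.bcMap hf (etTo E v) ≫ ψ)).symm
        rfl)) (by
      refine (EtOver.bcMap_snd hf l).trans ?_
      show EtOver.bcπ hf E₁ ≫ a ≫ hr.fst' E.obj.hom = ((EtOver.bcMap hf (etTo E v)).hom.left ≫ ψ.hom.left) ≫ _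
      rw [← Category.assoc, key, Category.assoc, hr.lift'_fst, Category.assoc]))
    refine ⟨_, (EtOver.bc hf).map (etTo E v), ⟨_, etTo E v, 𝟙 _, ⟨l, hl⟩, (Category.id_comp _).symm⟩,
      exists_point_bc_etTo hf E v z ⟨_, hW ⟨z, rfl⟩⟩ ?_⟩
    show π.left.base (k.left.base z) = c.left.base z
    rw [← Scheme.Hom.comp_apply, ← Over.comp_left, hk]

end Groth.Agent.EtClImm
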