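import Groth.Agent.EtClImm.Push
import Groth.Agent.AlgSpDec.EtNbhdCofiltered
import Groth.Prelude.Def_AlgSpDec
import Mathlib.CategoryTheory.Limits.Types.Filtered
import Mathlib.CategoryTheory.Limits.ConcreteCategory.Basic

/-!
# Stalks of direct images along integral universally injective morphisms
-/

set_option autoImplicit false
set_option backward.isDefEq.respectTransparency false
set_option backward.isDefEq.respectTransparency.types false

universe u

open CategoryTheory CategoryTheory.Limits AlgebraicGeometry Opposite AlgSp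

namespace Groth.Agent.EtClImm

variable {S : Scheme.{u}}

theorem exists_nbhd_over {Z : Sp S} {p : FieldPt Z} (hp : p.IsGeometric) (N : EtNbhd p) {E' : EtOver Z}
    (g : E' ⟶ N.1) (hg : N.2.1.left.base (IsLocalRing.closedPoint p.K) ∈ Set.range g.hom.left.left.base) :
    ∃ (v : (FieldPt.liftsTo p).obj E'), v.1 ≫ g.hom.left = N.2.1 := by
  have : IsAlgClosed p.K := hp
  obtain ⟨w, hw⟩ := hg
  obtain ⟨l, hl, -⟩ := AlgSpPts.exists_lift_geometric (IsAlgSpace.yon_obj E'.obj.left)
    (IsAlgSpace.yon_obj N.1.obj.left) (f := (yon S).map g.hom.left)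
    (AlgSpLib.locP_of_repWith ((repWith_yon_map_iff _ _).2 (EtOver.etale_left g))) ((yon S).map N.2.1)
    (u := Points.ofScheme _ w) (by
      show Points.map ((yon S).map g.hom.left) (Points.ofPt (𝟙 _) w) = _
      rw [Points.map_ofPt, Category.id_comp, ← Category.comp_id ((yon S).map g.hom.left), AlgSpLib.ofPt_comp,
        ← Category.comp_id ((yon S).map N.2.1), AlgSpLib.ofPt_comp]
      exact congrArg _ hw)
  obtain ⟨k, rfl⟩ := (yon S).map_surjective l
  rw [← Functor.map_comp] at hl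
  have hk : k ≫ g.hom.left = N.2.1 := (yon S).map_injective hl
  exact ⟨⟨k, by rw [← EtOver.w g, ← Functor.map_comp_assoc, hk]; exact N.2.2⟩, hk⟩

variable {Z X : Sp S} {f : Z ⟶ X} (hf : Representable f) (z : FieldPt Z)

theorem nbhd_w (N : EtNbhd (z.map f)) : z.toHom ≫ f = (yon S).map N.2.1 ≫ N.1.obj.hom :=
  (N.2.2.trans (FieldPt.toHom_map f z)).symm

/-- Base change of a neighbourhood of the image point. -/
noncomputable def bcNbhd : EtNbhd (z.map f) ⥤ EtNbhd z where
  obj N := ⟨(EtOver.bc hf).obj N.1, ⟨hf.lift z.toHom N.2.1 (nbhd_w z N), hf.lift_fst _ _ _⟩⟩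
  map {N M} g := CategoryOfElements.homMk _ _ ((EtOver.bc hf).map g.val) (Subtype.ext (by
    show hf.lift z.toHom N.2.1 _ ≫ (EtOver.bcMap hf g.val).hom.left = hf.lift z.toHom M.2.1 _
    refine hf.hom_ext ?_ ?_
    · rw [Functor.map_comp, Category.assoc, EtOver.map_bcMap_fst, hf.lift_fst, hf.lift_fst]
    · rw [Category.assoc, EtOver.bcMap_snd, ← Category.assoc, hf.lift_snd, hf.lift_snd]
      exact congrArg Subtype.val g.property))
  map_id N := CategoryOfElements.ext _ _ _ ((EtOver.bc hf).map_id N.1)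
  map_comp g g' := CategoryOfElements.ext _ _ _ ((EtOver.bc hf).map_comp g.val g'.val)

variable {hf} {z}

theorem lift_eq_of_snd (N : EtNbhd (z.map f)) (v : (FieldPt.liftsTo z).obj ((EtOver.bc hf).obj N.1))
    (h : v.1 ≫ EtOver.bcπ hf N.1 = N.2.1) : ((bcNbhd hf z).obj N).2 = v :=
  Subtype.ext (hf.hom_ext ((hf.lift_fst _ _ _).trans v.2.symm) ((hf.lift_snd _ _ _).trans h.symm))

/-- The neighbourhood of the image point attached to a lift to a base change. -/
noncomputable def ofBcLift (E : EtOver X) (v : (FieldPt.liftsTo z).obj ((EtOver.bc hf).obj E)) : EtNbhd (z.map f) :=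
  ⟨E, ⟨v.1 ≫ EtOver.bcπ hf E, by
    refine ((Functor.map_comp_assoc (yon S) _ _ _).trans ?_)
    rw [← hf.w E.obj.hom, ← Category.assoc]
    exact (congrArg (· ≫ f) v.2).trans (FieldPt.toHom_map f z).symm⟩⟩

theorem bcNbhd_ofBcLift (E : EtOver X) (v : (FieldPt.liftsTo z).obj ((EtOver.bc hf).obj E)) :
    ((bcNbhd hf z).obj (ofBcLift E v)).2 = v :=
  lift_eq_of_snd (ofBcLift E v) v rfl

variable (H : Hyp f) (hZ : IsAlgSpace Z) (hz : z.IsGeometric) (F : EtSh Z (Type (u + 1)))

/-- The comparison of stalks. -/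
noncomputable def stalkMap :
    stalkEt (z.map f) ((pushEt hf (Type (u + 1))).obj F) ⟶ stalkEt z F :=
  colimit.desc _
    { pt := stalkEt z F
      ι :=
        { app := fun N => stalkEtι z F ((bcNbhd hf z).obj N.unop)
          naturality := fun N M g => (colimit.w (stalkEtDiagram z F) ((bcNbhd hf z).map g.unop).op).trans
            (Category.comp_id _).symm } }

theorem stalkMap_ι (N : EtNbhd (z.map f)) (s) :
    stalkMap F (stalkEtι (z.map f) ((pushEt hf (Type (u + 1))).obj F) N s) =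
      stalkEtι z F ((bcNbhd hf z).obj N) s :=
  ConcreteCategory.congr_hom (colimit.ι_desc (F := stalkEtDiagram (z.map f) ((pushEt hf _).obj F)) _ (op N)) s

include H hz

theorem surjective_stalkMap : Function.Surjective (stalkMap (hf := hf) (z := z) F) := by
  intro x
  obtain ⟨⟨N'⟩, s', rfl⟩ := Types.jointly_surjective' x
  obtain ⟨E, ψ, hw⟩ := exists_bc_hom hf H.space H.integral H.univInj N'.1
    (N'.2.1.left.base (IsLocalRing.closedPoint z.K))
  obtain ⟨v, hv⟩ := exists_nbhd_over hz N' ψ hw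
  refine ⟨stalkEtι (z.map f) ((pushEt hf _).obj F) (ofBcLift E v) (F.obj.map ψ.op s'), ?_⟩
  rw [stalkMap_ι]
  let g : (bcNbhd hf z).obj (ofBcLift E v) ⟶ N' := CategoryOfElements.homMk _ _ ψ
    (Subtype.ext (by
      show ((bcNbhd hf z).obj (ofBcLift E v)).2.1 ≫ ψ.hom.left = N'.2.1
      rw [bcNbhd_ofBcLift]
      exact hv))
  exact ConcreteCategory.congr_hom (colimit.w (stalkEtDiagram z F) g.op) s'

include hZ

theorem injective_stalkMap : Function.Injective (stalkMap (hf := hf) (z := z) F) := by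
  have := AlgSpDec.isCofiltered_etNbhd z hZ hz
  have := AlgSpDec.isCofiltered_etNbhd (z.map f) H.space hz
  intro x y hxy
  obtain ⟨⟨N₁⟩, s₁, rfl⟩ := Types.jointly_surjective' x
  obtain ⟨⟨N₂⟩, s₂, rfl⟩ := Types.jointly_surjective' y
  let N := IsCofiltered.min N₁ N₂
  let a := IsCofiltered.minToLeft N₁ N₂
  let b := IsCofiltered.minToRight N₁ N₂
  let D := stalkEtDiagram (z.map f) ((pushEt hf (Type (u + 1))).obj F)
  have ha : colimit.ι D (op N) (D.map a.op s₁) = colimit.ι D (op N₁) s₁ :=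
    ConcreteCategory.congr_hom (colimit.w D a.op) s₁
  have hb : colimit.ι D (op N) (D.map b.op s₂) = colimit.ι D (op N₂) s₂ :=
    ConcreteCategory.congr_hom (colimit.w D b.op) s₂
  rw [← ha, ← hb] at hxy ⊢
  generalize D.map a.op s₁ = s, D.map b.op s₂ = t at hxy ⊢
  erw [stalkMap_ι, stalkMap_ι] at hxy
  obtain ⟨⟨M'⟩, h₁, h₂, he⟩ := (Types.FilteredColimit.colimit_eq_iff (F := stalkEtDiagram z F)).1 hxy
  let k := IsCofiltered.eqHom h₁.unop h₂.unop
  let M := IsCofiltered.eq h₁.unop h₂.unop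
  let h : M ⟶ (bcNbhd hf z).obj N := k ≫ h₁.unop
  have hh : F.obj.map h.val.op s = F.obj.map h.val.op t := by
    have hk : k ≫ h₁.unop = k ≫ h₂.unop := IsCofiltered.eq_condition _ _
    have e1 := congrArg (fun q => (stalkEtDiagram z F).map k.op q) he
    simp only [← ConcreteCategory.comp_apply, ← Functor.map_comp] at e1
    change (stalkEtDiagram z F).map h.op s = (stalkEtDiagram z F).map h.op t
    rw [show h.op = h₁ ≫ k.op from rfl]
    rw [show h₁ ≫ k.op = h₂ ≫ k.op from congrArg Quiver.Hom.op hk] at e1 ⊢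
    exact e1
  obtain ⟨E, ψ, hw⟩ := exists_bc_hom hf H.space H.integral H.univInj M.1
    (M.2.1.left.base (IsLocalRing.closedPoint z.K))
  obtain ⟨v, hv⟩ := exists_nbhd_over hz M ψ hw
  have := H.isLocallyFull (hf := hf)
  obtain ⟨W, c, ⟨E₁, j, d, ⟨l, hl⟩, rfl⟩, w, hw'⟩ := exists_of_mem_etTop
    ((EtOver.bc hf).functorPushforward_imageSieve_mem (etTop Z) (U := E) (V := N.1) (ψ ≫ h.val))
    (v.1.left.base (IsLocalRing.closedPoint z.K))
  obtain ⟨v₁, hv₁⟩ := exists_nbhd_over hz (⟨_, v⟩ : EtNbhd z) ((EtOver.bc hf).map j)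
    ⟨d.hom.left.left.base w, hw'⟩
  have hNl : (ofBcLift E₁ v₁).2.1 ≫ l.hom.left = N.2.1 := by
    show (v₁.1 ≫ EtOver.bcπ hf E₁) ≫ l.hom.left = N.2.1
    rw [Category.assoc, ← EtOver.bcMap_snd hf l, ← EtOver.bc_map, hl]
    show v₁.1 ≫ (((EtOver.bc hf).map j).hom.left ≫ ψ.hom.left ≫ h.val.hom.left) ≫ _ = _
    rw [Category.assoc, ← Category.assoc v₁.1, hv₁, ← Category.assoc]
    show (((v.1 ≫ ψ.hom.left ≫ h.val.hom.left))) ≫ _ = _
    rw [← Category.assoc v.1, hv]
    show (M.2.1 ≫ h.val.hom.left) ≫ _ = _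
    rw [show M.2.1 ≫ h.val.hom.left = ((bcNbhd hf z).obj N).2.1 from congrArg Subtype.val h.property]
    exact hf.lift_snd _ _ _
  let g : ofBcLift E₁ v₁ ⟶ N := CategoryOfElements.homMk _ _ l (Subtype.ext hNl)
  have key : D.map g.op s = D.map g.op t := by
    show F.obj.map ((EtOver.bc hf).map l).op s = F.obj.map ((EtOver.bc hf).map l).op t
    rw [hl, op_comp, op_comp, Functor.map_comp, Functor.map_comp]
    exact congrArg (fun q => F.obj.map ((EtOver.bc hf).map j).op (F.obj.map ψ.op q)) hh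
  exact (ConcreteCategory.congr_hom (colimit.w D g.op) s).symm.trans
    ((congrArg _ key).trans (ConcreteCategory.congr_hom (colimit.w D g.op) t))

end Groth.Agent.EtClImm
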